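import Cfsg.Agent.Lib.CharInd.Basic
import Cfsg.Agent.Lib.CharCore.Complete
import Cfsg.Agent.Lib.CharCore.Glauberman
import Cfsg.Agent.Lib.BlocksCore.WeakOrth
import Cfsg.Prelude.Def_Blocks
import Mathlib.LinearAlgebra.Trace
import Mathlib.LinearAlgebra.Matrix.ToLin

/-!
# Multiplicity-free restrictions

Averaged functions `F a x = ∑ u, ψ (u a u⁻¹ x)` are the image of an idempotent of trace equal
to the number of constituents of the restriction, hence combinations of the functions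
`x ↦ ∑ w, φ w⁻¹ ψ (w x)`; so the averages commute.
-/

set_option linter.unusedSectionVars false

namespace Cfsg.Agent.EqDeg71

open scoped ComplexConjugate
open CharCore

universe u

variable {G : Type u} [Group G] [Fintype G] (U : Subgroup G) [Fintype U]
  (ψ : Cfsg.IrrCharacter G)

/-- The degree of an irreducible character read as a natural number. -/
theorem cast_charDegree_irr {K : Type u} [Group K] (χ : Cfsg.IrrCharacter K) :
    (Cfsg.charDegree (χ : K → ℂ) : ℂ) = (χ : K → ℂ) 1 := by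
  obtain ⟨n, -, hn⟩ := IsIrrCharacter.exists_degree χ.2
  simp [Cfsg.charDegree, hn]

theorem multFree_of_degree
    (hdeg : ∀ φ : Cfsg.IrrCharacter U,
      Cfsg.classInner (fun u : U => (ψ : G → ℂ) u) (φ : U → ℂ) ≠ 0 →
        U.index * Cfsg.charDegree (φ : U → ℂ) = Cfsg.charDegree (ψ : G → ℂ)) :
    (∀ φ : Cfsg.IrrCharacter U, Cfsg.classInner (fun u : U => (ψ : G → ℂ) u) (φ : U → ℂ) = 0 ∨
      Cfsg.classInner (fun u : U => (ψ : G → ℂ) u) (φ : U → ℂ) = 1) ∧
    ∀ g, g ∉ U → (ψ : G → ℂ) g = 0 := by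
  classical
  set res : U → ℂ := fun u => (ψ : G → ℂ) u with hresdef
  have hres : Cfsg.IsCharacter U res := isCharacter_restrict (irr_isCharacter ψ) U
  choose m hm using fun φ : Cfsg.IrrCharacter U =>
    IsCharacter.exists_classInner_irr_eq_natCast hres φ
  have hdec : res = ∑ φ : Cfsg.IrrCharacter U, (m φ : ℂ) • (φ : U → ℂ) := by
    conv_lhs => rw [IsCharacter.eq_sum_classInner hres]
    simp only [hm]
  -- the multiplicities add up to the index
  have hsum : ((∑ φ, m φ : ℕ) : ℂ) = (U.index : ℂ) := by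
    push_cast
    refine mul_right_cancel₀ (irr_apply_one_ne_zero ψ) ?_
    have h1 : (ψ : G → ℂ) 1 = ∑ φ : Cfsg.IrrCharacter U, (m φ : ℂ) * (φ : U → ℂ) 1 := by
      have := congrFun hdec 1
      simpa [hresdef, Finset.sum_apply] using this
    conv_rhs => rw [h1, Finset.mul_sum]
    rw [Finset.sum_mul]
    refine Finset.sum_congr rfl fun φ _ => ?_
    by_cases h0 : m φ = 0
    · simp [h0]
    have hd := hdeg φ (by rw [hm]; exact_mod_cast h0)
    have hd' : (U.index : ℂ) * (φ : U → ℂ) 1 = (ψ : G → ℂ) 1 := by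
      rw [← cast_charDegree_irr φ, ← cast_charDegree_irr ψ]
      exact_mod_cast hd
    rw [mul_left_comm, hd']
  have hsumN : ∑ φ, m φ = U.index := by exact_mod_cast hsum
  -- norms
  have hU : ∑ u : U, Complex.normSq ((ψ : G → ℂ) u) =
      (Nat.card U : ℝ) * ((∑ φ, m φ * m φ : ℕ) : ℝ) := by
    have h : Cfsg.classInner res res = ((∑ φ, m φ * m φ : ℕ) : ℂ) := by
      rw [hdec, classInner_sum_sum]
      simp
    rw [classInner_def, inv_mul_eq_iff_eq_mul₀ (Nat.cast_ne_zero.mpr Nat.card_pos.ne')] at h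
    simp only [hresdef, Complex.mul_conj] at h
    exact_mod_cast h
  have hG : ∑ g : G, Complex.normSq ((ψ : G → ℂ) g) = (Nat.card G : ℝ) := by
    have h := classInner_irr_self ψ
    rw [classInner_def, inv_mul_eq_iff_eq_mul₀ (Nat.cast_ne_zero.mpr Nat.card_pos.ne'), mul_one]
      at h
    simp only [Complex.mul_conj] at h
    exact_mod_cast h
  have hcard : Nat.card G = Nat.card U * U.index := (Subgroup.card_mul_index U).symm
  have hsplit : ∑ u : U, Complex.normSq ((ψ : G → ℂ) u) +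
      ∑ g ∈ Finset.univ.filter (fun g => g ∉ U), Complex.normSq ((ψ : G → ℂ) g) =
        ∑ g : G, Complex.normSq ((ψ : G → ℂ) g) := by
    rw [← Finset.sum_filter_add_sum_filter_not Finset.univ (fun g => g ∈ U)
      (fun g => Complex.normSq ((ψ : G → ℂ) g))]
    congr 1
    exact (Finset.sum_subtype (p := fun g : G => g ∈ U) _ (fun g => by simp)
      (fun g => Complex.normSq ((ψ : G → ℂ) g))).symm
  set R := ∑ g ∈ Finset.univ.filter (fun g => g ∉ U), Complex.normSq ((ψ : G → ℂ) g) with hR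
  have hR0 : 0 ≤ R := Finset.sum_nonneg fun g _ => Complex.normSq_nonneg _
  have hUpos : (0 : ℝ) < Nat.card U := by exact_mod_cast Nat.card_pos
  rw [hU, hG, hcard, Nat.cast_mul, ← hsumN] at hsplit
  have hle : ∑ φ, m φ * m φ ≤ ∑ φ, m φ := by
    have h : ((∑ φ, m φ * m φ : ℕ) : ℝ) ≤ ((∑ φ, m φ : ℕ) : ℝ) :=
      le_of_mul_le_mul_left (by linarith) hUpos
    exact_mod_cast h
  have hge : ∀ φ ∈ (Finset.univ : Finset (Cfsg.IrrCharacter U)), m φ ≤ m φ * m φ :=
    fun φ _ => Nat.le_mul_self _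
  have heq := le_antisymm (Finset.sum_le_sum hge) hle
  refine ⟨fun φ => ?_, fun g hg => ?_⟩
  · have hφ := (Finset.sum_eq_sum_iff_of_le hge).mp heq φ (Finset.mem_univ φ)
    rw [hm φ]
    rcases Nat.eq_zero_or_pos (m φ) with h | h
    · simp [h]
    · right
      have : m φ = 1 := by nlinarith
      simp [this]
  · have hRz : R = 0 := by
      rw [heq] at hsplit
      linarith
    have := (Finset.sum_eq_zero_iff_of_nonneg fun x _ => Complex.normSq_nonneg _).mp hRz g
      (by simp [hg])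
    exact Complex.normSq_eq_zero.mp this

/-- Convolution of an irreducible character with itself. -/
theorem sum_irr_mul_irr (r q : G) :
    ∑ b : G, (ψ : G → ℂ) (r * b) * (ψ : G → ℂ) (b⁻¹ * q) =
      (Nat.card G : ℂ) / (ψ : G → ℂ) 1 * (ψ : G → ℂ) (r * q) := by
  have h := sum_mul_apply_inv_mul (irr_isClassFunction ψ) ψ (r * q)
  rw [classInner_irr_self, mul_one] at h
  rw [← h]
  refine Fintype.sum_equiv (Equiv.mulLeft r) _ _ fun b => ?_
  simp [mul_assoc]

/-- Cyclicity. -/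
theorem irr_mul_comm (x y : G) : (ψ : G → ℂ) (x * y) = (ψ : G → ℂ) (y * x) := by
  have h := irr_isClassFunction ψ (y * x) x
  simpa [mul_assoc] using h

/-- The kernel of the averaging idempotent. -/
noncomputable def avgKernel : Matrix G G ℂ := Matrix.of fun y a =>
  ((Nat.card G : ℂ) / (ψ : G → ℂ) 1 * (Nat.card U : ℂ))⁻¹ *
    ∑ u : U, (ψ : G → ℂ) ((u : G) * a⁻¹ * (u : G)⁻¹ * y)

/-- The function attached to a character of the subgroup. -/
noncomputable def consFun (φ : U → ℂ) : G → ℂ :=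
  fun x => ∑ w : U, φ w⁻¹ * (ψ : G → ℂ) ((w : G) * x)

theorem card_div_mul_ne_zero :
    (Nat.card G : ℂ) / (ψ : G → ℂ) 1 * (Nat.card U : ℂ) ≠ 0 :=
  mul_ne_zero (div_ne_zero (Nat.cast_ne_zero.mpr Nat.card_pos.ne') (irr_apply_one_ne_zero ψ))
    (Nat.cast_ne_zero.mpr Nat.card_pos.ne')

theorem sum_inner_kernel (u : U) (a : G) (y : G) :
    ∑ b : G, (ψ : G → ℂ) ((u : G) * b⁻¹ * (u : G)⁻¹ * y) * (ψ : G → ℂ) (a * b) =
      (Nat.card G : ℂ) / (ψ : G → ℂ) 1 * (ψ : G → ℂ) (a * ((u : G)⁻¹ * y * u)) := by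
  rw [← sum_irr_mul_irr]
  refine Finset.sum_congr rfl fun b _ => ?_
  rw [mul_comm, show (u : G) * b⁻¹ * (u : G)⁻¹ * y = (u : G) * (b⁻¹ * (u : G)⁻¹ * y) by group,
    irr_mul_comm ψ (u : G)]
  simp only [mul_assoc]

theorem avgKernel_mul_self : avgKernel U ψ * avgKernel U ψ = avgKernel U ψ := by
  ext y a
  set z := (Nat.card G : ℂ) / (ψ : G → ℂ) 1 with hz
  have hne := card_div_mul_ne_zero U ψ
  have key : ∀ u v : U,
      ∑ b : G, (ψ : G → ℂ) ((u : G) * b⁻¹ * (u : G)⁻¹ * y) *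
          (ψ : G → ℂ) ((v : G) * a⁻¹ * (v : G)⁻¹ * b) =
        z * (ψ : G → ℂ) (((u * v : U) : G) * a⁻¹ * ((u * v : U) : G)⁻¹ * y) := fun u v => by
    rw [sum_inner_kernel U ψ u ((v : G) * a⁻¹ * (v : G)⁻¹) y]
    congr 1
    rw [show (v : G) * a⁻¹ * (v : G)⁻¹ * ((u : G)⁻¹ * y * u) =
      ((v : G) * a⁻¹ * (v : G)⁻¹ * (u : G)⁻¹ * y) * u by group, irr_mul_comm ψ _ (u : G)]
    congr 1
    push_cast
    group
  simp only [Matrix.mul_apply, avgKernel, Matrix.of_apply, ← hz]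
  have e : ∀ (r : ℂ) (f g : U → G → ℂ),
      ∑ b : G, r * (∑ u, f u b) * (r * ∑ v, g v b) = r * r * ∑ u, ∑ v, ∑ b, f u b * g v b := by
    intro r f g
    rw [Finset.sum_congr rfl fun b _ => mul_mul_mul_comm r (∑ u, f u b) r (∑ v, g v b),
      ← Finset.mul_sum]
    simp only [Finset.sum_mul_sum]
    rw [Finset.sum_comm]
    congr 1
    exact Finset.sum_congr rfl fun u _ => Finset.sum_comm
  rw [e]
  simp only [key, ← Finset.mul_sum]
  have hre : ∀ u : U,
      ∑ v : U, (ψ : G → ℂ) (((u * v : U) : G) * a⁻¹ * ((u * v : U) : G)⁻¹ * y) =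
        ∑ v : U, (ψ : G → ℂ) ((v : G) * a⁻¹ * (v : G)⁻¹ * y) := fun u =>
    Fintype.sum_equiv (Equiv.mulLeft u) _ _ fun v => rfl
  simp only [hre, Finset.sum_const, Finset.card_univ, nsmul_eq_mul, Fintype.card_eq_nat_card]
  generalize ∑ v : U, (ψ : G → ℂ) ((v : G) * a⁻¹ * (v : G)⁻¹ * y) = X
  have h1 := inv_mul_cancel₀ hne
  rw [← hz] at h1
  linear_combination ((z * (Nat.card U : ℂ))⁻¹ * X) * h1

theorem trace_avgKernel :
    (avgKernel U ψ).trace =
      Cfsg.classInner (fun u : U => (ψ : G → ℂ) u) (fun u : U => (ψ : G → ℂ) u) := by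
  have hne := card_div_mul_ne_zero U ψ
  simp only [Matrix.trace, Matrix.diag, avgKernel, Matrix.of_apply, ← Finset.mul_sum]
  rw [Finset.sum_comm]
  have key : ∀ u : U, ∑ a : G, (ψ : G → ℂ) ((u : G) * a⁻¹ * (u : G)⁻¹ * a) =
      (Nat.card G : ℂ) / (ψ : G → ℂ) 1 * ((ψ : G → ℂ) u * conj ((ψ : G → ℂ) u)) := fun u => by
    rw [← irr_apply_inv ψ]
    have h := BlocksCore.sum_char_conj_mul ψ (u : G)⁻¹ (u : G)
    rw [show (Nat.card G : ℂ) / (ψ : G → ℂ) 1 * ((ψ : G → ℂ) u * (ψ : G → ℂ) (u : G)⁻¹) =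
      (Nat.card G : ℂ) * (ψ : G → ℂ) (u : G)⁻¹ * (ψ : G → ℂ) u / (ψ : G → ℂ) 1 by ring, ← h]
    refine Finset.sum_congr rfl fun a _ => ?_
    rw [show (u : G) * a⁻¹ * (u : G)⁻¹ * a = (u : G) * (a⁻¹ * (u : G)⁻¹ * a) by group]
    exact irr_mul_comm ψ _ _
  simp only [key, ← Finset.mul_sum, classInner_def]
  have hψ := irr_apply_one_ne_zero ψ
  have hN : (Nat.card G : ℂ) ≠ 0 := Nat.cast_ne_zero.mpr Nat.card_pos.ne'
  field_simp

theorem consFun_fixed (φ : Cfsg.IrrCharacter U) :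
    Matrix.mulVec (avgKernel U ψ) (consFun U ψ (φ : U → ℂ)) = consFun U ψ (φ : U → ℂ) := by
  funext y
  have hne := card_div_mul_ne_zero U ψ
  set z := (Nat.card G : ℂ) / (ψ : G → ℂ) 1 with hz
  have key : ∀ u w : U,
      ∑ b : G, (ψ : G → ℂ) ((u : G) * b⁻¹ * (u : G)⁻¹ * y) *
          ((φ : U → ℂ) w⁻¹ * (ψ : G → ℂ) ((w : G) * b)) =
        z * ((φ : U → ℂ) (u * w * u⁻¹)⁻¹ * (ψ : G → ℂ) (((u * w * u⁻¹ : U) : G) * y)) :=
      fun u w => by
    have hφ : (φ : U → ℂ) (u * w * u⁻¹)⁻¹ = (φ : U → ℂ) w⁻¹ := by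
      rw [show (u * w * u⁻¹)⁻¹ = u * w⁻¹ * u⁻¹ by group]
      exact irr_isClassFunction φ w⁻¹ u
    rw [hφ]
    simp only [mul_left_comm _ ((φ : U → ℂ) w⁻¹), ← Finset.mul_sum]
    rw [sum_inner_kernel U ψ u (w : G) y]
    congr 1
    rw [show (w : G) * ((u : G)⁻¹ * y * u) = ((w : G) * (u : G)⁻¹ * y) * u by group,
      irr_mul_comm ψ _ (u : G)]
    congr 2
    push_cast
    group
  simp only [Matrix.mulVec, dotProduct, avgKernel, Matrix.of_apply, consFun, ← hz]
  have e : ∀ (r : ℂ) (f g : U → G → ℂ),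
      ∑ b : G, r * (∑ u, f u b) * ∑ v, g v b = r * ∑ u, ∑ v, ∑ b, f u b * g v b := by
    intro r f g
    rw [Finset.sum_congr rfl fun b _ => mul_assoc r (∑ u, f u b) (∑ v, g v b),
      ← Finset.mul_sum]
    simp only [Finset.sum_mul_sum]
    rw [Finset.sum_comm]
    congr 1
    exact Finset.sum_congr rfl fun u _ => Finset.sum_comm
  rw [e]
  simp only [key, ← Finset.mul_sum]
  have hre : ∀ u : U,
      ∑ w : U, (φ : U → ℂ) (u * w * u⁻¹)⁻¹ * (ψ : G → ℂ) (((u * w * u⁻¹ : U) : G) * y) =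
        ∑ w : U, (φ : U → ℂ) w⁻¹ * (ψ : G → ℂ) ((w : G) * y) := fun u =>
    Fintype.sum_equiv (MulAut.conj u).toEquiv _ _ fun w => rfl
  simp only [hre, Finset.sum_const, Finset.card_univ, nsmul_eq_mul, Fintype.card_eq_nat_card]
  generalize ∑ w : U, (φ : U → ℂ) w⁻¹ * (ψ : G → ℂ) ((w : G) * y) = X
  have h1 := inv_mul_cancel₀ hne
  linear_combination X * h1

/-- The averaged functions are combinations of the `consFun`. -/
theorem exists_coeff
    (hmf : ∀ φ : Cfsg.IrrCharacter U,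
      Cfsg.classInner (fun u : U => (ψ : G → ℂ) u) (φ : U → ℂ) = 0 ∨
        Cfsg.classInner (fun u : U => (ψ : G → ℂ) u) (φ : U → ℂ) = 1) (a : G) :
    ∃ c : {φ : Cfsg.IrrCharacter U //
        Cfsg.classInner (fun u : U => (ψ : G → ℂ) u) (φ : U → ℂ) ≠ 0} → ℂ,
      ∀ x, ∑ s : U, (ψ : G → ℂ) ((s : G) * a * (s : G)⁻¹ * x) =
        ∑ φ, c φ * consFun U ψ (φ.1 : U → ℂ) x := by
  classical
  set res : U → ℂ := fun u => (ψ : G → ℂ) u with hresdef
  have hres : Cfsg.IsCharacter U res := isCharacter_restrict (irr_isCharacter ψ) U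
  let S := {φ : Cfsg.IrrCharacter U // Cfsg.classInner res (φ : U → ℂ) ≠ 0}
  have hdec : res = ∑ φ : Cfsg.IrrCharacter U,
      Cfsg.classInner res (φ : U → ℂ) • (φ : U → ℂ) := IsCharacter.eq_sum_classInner hres
  -- the trace
  have htr : Cfsg.classInner res res = (Fintype.card S : ℂ) := by
    conv_lhs => rw [hdec]
    rw [classInner_sum_sum, Fintype.card_subtype, Finset.card_filter, Nat.cast_sum]
    refine Finset.sum_congr rfl fun φ _ => ?_
    rcases hmf φ with h | h <;> simp [h]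
  let T : (G → ℂ) →ₗ[ℂ] (G → ℂ) := Matrix.toLin' (avgKernel U ψ)
  have hT : IsIdempotentElem T := by
    show T * T = T
    rw [Module.End.mul_eq_comp]
    show (Matrix.toLin' _).comp (Matrix.toLin' _) = _
    rw [← Matrix.toLin'_mul, avgKernel_mul_self]
  have hrank : Module.finrank ℂ (LinearMap.range T) = Fintype.card S := by
    have h := ((LinearMap.isProj_range_iff_isIdempotentElem T).mpr hT).trace
    rw [LinearMap.trace_eq_matrix_trace ℂ (Pi.basisFun ℂ G), LinearMap.toMatrix_eq_toMatrix',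
      LinearMap.toMatrix'_toLin', trace_avgKernel, ← hresdef, htr] at h
    exact_mod_cast h.symm
  let f : S → G → ℂ := fun φ => consFun U ψ (φ.1 : U → ℂ)
  have hf : ∀ φ : S, f φ ∈ LinearMap.range T := fun φ =>
    ⟨f φ, by
      show Matrix.toLin' (avgKernel U ψ) (f φ) = f φ
      rw [Matrix.toLin'_apply]
      exact consFun_fixed U ψ φ.1⟩
  have hres_f : ∀ (φ : S) (x : U), f φ (x : G) =
      (Nat.card U : ℂ) / (φ.1 : U → ℂ) 1 * (φ.1 : U → ℂ) x := by
    intro φ x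
    have h1 : f φ (x : G) = ∑ w : U, (φ.1 : U → ℂ) w * res (w⁻¹ * x) := by
      refine Fintype.sum_equiv (Equiv.inv U) _ _ fun w => ?_
      simp [hresdef]
    have hx : ∀ y, res y = ∑ χ : Cfsg.IrrCharacter U,
        Cfsg.classInner res (χ : U → ℂ) * (χ : U → ℂ) y := fun y => by
      conv_lhs => rw [hdec]
      simp [Finset.sum_apply]
    rw [h1]
    conv_lhs => simp only [hx]
    simp only [Finset.mul_sum]
    rw [Finset.sum_comm]
    simp only [mul_left_comm _ (Cfsg.classInner res _), ← Finset.mul_sum,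
      sum_mul_apply_inv_mul (irr_isClassFunction φ.1)]
    rw [Finset.sum_eq_single φ.1]
    · rw [(hmf φ.1).resolve_left φ.2, one_mul, classInner_irr_self, mul_one]
    · intro χ _ hne
      rw [classInner_irr_of_ne (Ne.symm hne)]
      simp
    · simp
  have hli : LinearIndependent ℂ f := by
    rw [Fintype.linearIndependent_iff]
    intro g hg φ
    have h : ∑ χ : S, (g χ * ((Nat.card U : ℂ) / (χ.1 : U → ℂ) 1)) • (χ.1 : U → ℂ) = 0 := by
      funext x
      have := congrFun hg (x : G)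
      simpa [Finset.sum_apply, hres_f, mul_assoc] using this
    have := Fintype.linearIndependent_iff.mp
      ((linearIndependent_irr (G := U)).comp (Subtype.val : S → _) Subtype.val_injective)
      (fun χ : S => g χ * ((Nat.card U : ℂ) / (χ.1 : U → ℂ) 1)) h φ
    exact (mul_eq_zero.mp this).resolve_right
      (div_ne_zero (Nat.cast_ne_zero.mpr Nat.card_pos.ne') (irr_apply_one_ne_zero φ.1))
  have hspan : Submodule.span ℂ (Set.range f) = LinearMap.range T := by
    refine Submodule.eq_of_le_of_finrank_eq ?_ ?_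
    · rw [Submodule.span_le]
      rintro _ ⟨φ, rfl⟩
      exact hf φ
    · rw [finrank_span_eq_card hli, hrank]
  set z := (Nat.card G : ℂ) / (ψ : G → ℂ) 1 * (Nat.card U : ℂ) with hz
  have hmem : (fun x => ∑ s : U, (ψ : G → ℂ) ((s : G) * a * (s : G)⁻¹ * x)) ∈
      Submodule.span ℂ (Set.range f) := by
    rw [hspan]
    refine ⟨z • Pi.single a⁻¹ 1, ?_⟩
    funext x
    simp only [map_smul, Pi.smul_apply, smul_eq_mul, T, Matrix.toLin'_apply, Matrix.mulVec_single,
      MulOpposite.op_one, one_smul, Matrix.col_apply, avgKernel, Matrix.of_apply, inv_inv, ← hz]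
    rw [mul_inv_cancel_left₀ (card_div_mul_ne_zero U ψ)]
  obtain ⟨c, hc⟩ := (Submodule.mem_span_range_iff_exists_fun ℂ).mp hmem
  refine ⟨c, fun x => ?_⟩
  have := congrFun hc x
  simpa [Finset.sum_apply, f] using this.symm

theorem commute_of_multFree
    (hmf : ∀ φ : Cfsg.IrrCharacter U,
      Cfsg.classInner (fun u : U => (ψ : G → ℂ) u) (φ : U → ℂ) = 0 ∨
        Cfsg.classInner (fun u : U => (ψ : G → ℂ) u) (φ : U → ℂ) = 1) (a b x : G) :
    ∑ s : U, ∑ t : U,
        (ψ : G → ℂ) (((s : G) * a * (s : G)⁻¹) * ((t : G) * b * (t : G)⁻¹) * x) =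
      ∑ s : U, ∑ t : U,
        (ψ : G → ℂ) (((t : G) * b * (t : G)⁻¹) * ((s : G) * a * (s : G)⁻¹) * x) := by
  classical
  obtain ⟨c, hc⟩ := exists_coeff U ψ hmf a
  set B : U → G := fun t => (t : G) * b * (t : G)⁻¹ with hB
  have hL : ∀ (s t : U), (ψ : G → ℂ) (((s : G) * a * (s : G)⁻¹) * B t * x) =
      (ψ : G → ℂ) ((s : G) * a * (s : G)⁻¹ * (B t * x)) := fun s t => by rw [mul_assoc]
  have hR : ∀ (s t : U), (ψ : G → ℂ) (B t * ((s : G) * a * (s : G)⁻¹) * x) =
      (ψ : G → ℂ) ((s : G) * a * (s : G)⁻¹ * (x * B t)) := fun s t => by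
    rw [mul_assoc (B t), irr_mul_comm ψ (B t)]
    simp only [mul_assoc]
  show ∑ s : U, ∑ t : U, (ψ : G → ℂ) (((s : G) * a * (s : G)⁻¹) * B t * x) =
    ∑ s : U, ∑ t : U, (ψ : G → ℂ) (B t * ((s : G) * a * (s : G)⁻¹) * x)
  simp only [hL, hR]
  rw [Finset.sum_comm]
  conv_rhs => rw [Finset.sum_comm]
  simp only [hc]
  rw [Finset.sum_comm]
  conv_rhs => rw [Finset.sum_comm]
  refine Finset.sum_congr rfl fun φ _ => ?_
  simp only [← Finset.mul_sum]
  congr 1
  simp only [consFun]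
  rw [Finset.sum_comm]
  conv_rhs => rw [Finset.sum_comm]
  refine Finset.sum_congr rfl fun w _ => ?_
  simp only [← Finset.mul_sum]
  congr 1
  refine Fintype.sum_equiv (Equiv.mulLeft w) _ _ fun t => ?_
  rw [← mul_assoc (w : G) x, irr_mul_comm ψ ((w : G) * x)]
  simp only [hB, Equiv.coe_mulLeft, Subgroup.coe_mul]
  congr 1
  group

end Cfsg.Agent.EqDeg71
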