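import Cfsg.Agent.Lib.CharCore.Complete
import Cfsg.Agent.Lib.CharCore.Linear
import Cfsg.Agent.Lib.Coprime.Action
import Cfsg.Agent.Lib.PGroup.Basic
import Mathlib.Analysis.SpecialFunctions.Complex.CircleAddChar

/-!
# The linear characters of order `p` of a normal `p`-subgroup as a linear representation
-/

set_option linter.unusedSectionVars false
set_option linter.style.haveILetI false

namespace Cfsg.Agent.EqDeg71

open scoped Matrix

universe u

variable {T : Type u} [Group T] [Fintype T] {p : ℕ} [Fact p.Prime]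

/-- The additive maps `D → ZMod p`. -/
def dualSpace (D : Subgroup T) : Submodule (ZMod p) (D → ZMod p) where
  carrier := {f | ∀ a b, f (a * b) = f a + f b}
  add_mem' {f g} hf hg a b := by simp [hf a b, hg a b]; ring
  zero_mem' a b := by simp
  smul_mem' c f hf a b := by simp [hf a b, mul_add]

variable (p) in
/-- The action of `T` on the additive maps by conjugation. -/
def dualAct (D : Subgroup T) [D.Normal] : T →* Module.End (ZMod p) (dualSpace (p := p) D) where
  toFun g :=
    { toFun := fun f => ⟨fun d => (f : D → ZMod p) (MulAut.conjNormal g⁻¹ d), fun a b => by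
          show (f : D → ZMod p) _ = _
          rw [map_mul]; exact f.2 _ _⟩
      map_add' := fun f f' => rfl
      map_smul' := fun c f => rfl }
  map_one' := by
    refine LinearMap.ext fun f => Subtype.ext (funext fun d => ?_)
    simp
  map_mul' g h := by
    refine LinearMap.ext fun f => Subtype.ext (funext fun d => ?_)
    simp

theorem exists_addMap (D : Subgroup T) (hP : IsPGroup p D) {w : D} (hw : w ∉ frattini D) :
    ∃ f : dualSpace (p := p) D, (f : D → ZMod p) w ≠ 0 := by
  obtain ⟨M, hM, hwM⟩ : ∃ M : Subgroup D, IsCoatom M ∧ w ∉ M := by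
    by_contra h
    push Not at h
    refine hw ?_
    rw [frattini, Order.radical, Subgroup.mem_iInf]
    exact fun M => Subgroup.mem_iInf.mpr fun hM => h M hM
  haveI := PGroup.normal_of_isCoatom hP hM
  have hc : Nat.card (D ⧸ M) = p := by
    rw [← Subgroup.index_eq_card, PGroup.index_eq_prime_of_isCoatom hP hM]
  have hz : Nat.card (Multiplicative (ZMod p)) = p := by simp
  let e : (D ⧸ M) ≃* Multiplicative (ZMod p) := mulEquivOfPrimeCardEq hc hz
  refine ⟨⟨fun d => Multiplicative.toAdd (e (QuotientGroup.mk d)), fun a b => by simp⟩,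
    fun h => hwM ?_⟩
  rw [← QuotientGroup.eq_one_iff]
  exact e.injective (Multiplicative.toAdd.injective (by simpa using h))

theorem mem_of_dualAct_eq_one (D H : Subgroup T) [D.Normal] [H.Normal] (hP : IsPGroup p D)
    (hH : H = D ⊔ Subgroup.centralizer (D : Set T)) (hidx : ¬ p ∣ H.index) {k : T}
    (hk : dualAct p D k = 1) : k ∈ H := by
  have hp : p.Prime := Fact.out
  obtain ⟨j, m, hm, hjm⟩ := Nat.exists_eq_pow_mul_and_not_dvd (orderOf_pos k).ne' p hp.ne_one
  set a := k ^ p ^ j
  have ham : a ^ m = 1 := by rw [← pow_mul, ← hjm, pow_orderOf_eq_one]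
  have ha1 : ∀ b ∈ Subgroup.zpowers a, dualAct p D b = 1 := by
    intro b hb
    have : Subgroup.zpowers k ≤ (dualAct p D).ker := Subgroup.zpowers_le.mpr hk
    exact this (Subgroup.zpowers_le.mpr (Subgroup.pow_mem _ (Subgroup.mem_zpowers k) _) hb)
  have hcen : Subgroup.zpowers a ≤ Subgroup.centralizer (D : Set T) := by
    refine Coprime.le_centralizer_of_frattini _ D ?_ ?_ fun b hb d hd => ?_
    · rw [Subgroup.normalizer_eq_top_iff.mpr inferInstance]
      exact le_top
    · obtain ⟨i, hi⟩ := (hP.to_subgroup (frattini D)).exists_card_eq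
      rw [hi, Nat.card_zpowers]
      exact (((hp.coprime_iff_not_dvd.mpr hm).symm.coprime_dvd_left
        (orderOf_dvd_of_pow_eq_one ham))).pow_right i
    · refine ⟨MulAut.conjNormal b ⟨d, hd⟩ * (⟨d, hd⟩ : D)⁻¹, ?_, by simp⟩
      by_contra hw
      obtain ⟨f, hf⟩ := exists_addMap D hP hw
      have hinv : ∀ e : D, (f : D → ZMod p) (MulAut.conjNormal b e) = (f : D → ZMod p) e := by
        intro e
        have h1 := congrFun (congrArg Subtype.val (LinearMap.congr_fun (ha1 b hb) f))
          (MulAut.conjNormal b e)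
        simpa [dualAct, mul_assoc] using h1.symm
      have h1 : (f : D → ZMod p) 1 = 0 := by simpa using f.2 1 1
      have h2 := f.2 (⟨d, hd⟩ : D) (⟨d, hd⟩ : D)⁻¹
      rw [mul_inv_cancel, h1] at h2
      exact hf (by rw [f.2, hinv, ← h2])
  have haH : a ∈ H := hH ▸ Subgroup.mem_sup_right (hcen (Subgroup.mem_zpowers a))
  rw [← QuotientGroup.eq_one_iff, ← orderOf_eq_one_iff]
  obtain ⟨i, -, hi⟩ := (Nat.dvd_prime_pow hp).mp (orderOf_dvd_of_pow_eq_one
    (show ((k : T ⧸ H)) ^ p ^ j = 1 by
      rw [← QuotientGroup.mk_pow, QuotientGroup.eq_one_iff]; exact haH))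
  rw [hi]
  rcases Nat.eq_zero_or_pos i with rfl | hpos
  · exact pow_zero p
  refine absurd ?_ hidx
  rw [Subgroup.index_eq_card]
  exact (hi ▸ dvd_pow_self p hpos.ne' : p ∣ orderOf (k : T ⧸ H)).trans (orderOf_dvd_natCard _)

theorem exists_dual_rep (D H : Subgroup T) [D.Normal] [H.Normal] (hP : IsPGroup p D)
    (hH : H = D ⊔ Subgroup.centralizer (D : Set T)) (hidx : ¬ p ∣ H.index) :
    ∃ (n : ℕ) (r : T →* GL (Fin n) (ZMod p)), r.ker = H ∧
      ∀ v : Fin n → ZMod p, ∃ lam : Cfsg.IrrCharacter D, (lam : D → ℂ) 1 = 1 ∧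
        ∀ g, ((r g : Matrix (Fin n) (Fin n) (ZMod p)) *ᵥ v = v ↔ ∀ d : D,
          (lam : D → ℂ) ⟨g * d * g⁻¹, Subgroup.Normal.conj_mem inferInstance _ d.2 g⟩ =
            (lam : D → ℂ) d) := by
  classical
  let b := Module.finBasis (ZMod p) (dualSpace (p := p) D)
  let L := LinearMap.toMatrixAlgEquiv b
  let r : T →* GL (Fin (Module.finrank (ZMod p) (dualSpace (p := p) D))) (ZMod p) :=
    (Units.map (L : Module.End (ZMod p) _ →* _)).comp (dualAct p D).toHomUnits
  have hr : ∀ g, (r g : Matrix _ _ (ZMod p)) = L (dualAct p D g) := fun g => rfl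
  refine ⟨_, r, ?_, fun v => ?_⟩
  · apply le_antisymm
    · intro g hg
      refine mem_of_dualAct_eq_one D H hP hH hidx (L.injective ?_)
      rw [← hr, MonoidHom.mem_ker.mp hg, map_one]
      rfl
    · have hone : ∀ g, (∀ (f : dualSpace (p := p) D) (d : D),
          (f : D → ZMod p) (MulAut.conjNormal g⁻¹ d) = (f : D → ZMod p) d) → g ∈ r.ker := by
        intro g hg
        refine MonoidHom.mem_ker.mpr (Units.ext ?_)
        rw [hr, Units.val_one]
        have : dualAct p D g = 1 :=
          LinearMap.ext fun f => Subtype.ext (funext fun d => by simpa [dualAct] using hg f d)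
        rw [this, map_one]
      rw [hH, sup_le_iff]
      refine ⟨fun g hg => hone g fun f d => ?_, fun g hg => hone g fun f d => ?_⟩
      · have : MulAut.conjNormal g⁻¹ d = (⟨g, hg⟩ : D)⁻¹ * d * ⟨g, hg⟩ := Subtype.ext (by simp)
        rw [this, f.2, f.2]
        have h1 : (f : D → ZMod p) 1 = 0 := by simpa using f.2 1 1
        have h2 := f.2 (⟨g, hg⟩ : D)⁻¹ ⟨g, hg⟩
        rw [inv_mul_cancel, h1] at h2
        linear_combination -h2
      · refine congrArg _ (Subtype.ext ?_)
        simp [mul_assoc, Subgroup.mem_centralizer_iff.mp hg d d.2]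
  · set x := b.equivFun.symm v with hx
    let hom : D →* ℂˣ := MonoidHom.toHomUnits
      { toFun := fun d => ZMod.stdAddChar ((x : D → ZMod p) d)
        map_one' := by
          have h1 : (x : D → ZMod p) 1 = 0 := by simpa using x.2 1 1
          rw [h1, AddChar.map_zero_eq_one]
        map_mul' := fun a c => by rw [x.2, AddChar.map_add_eq_mul] }
    refine ⟨⟨fun d => (hom d : ℂ), CharCore.isIrrCharacter_hom hom⟩, by simp, fun g => ?_⟩
    have hv : v = fun i => b.repr x i := by
      rw [hx]; exact (b.equivFun.apply_symm_apply v).symm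
    have key : (r g : Matrix _ _ (ZMod p)) *ᵥ v = v ↔ dualAct p D g x = x := by
      have : (r g : Matrix _ _ (ZMod p)) *ᵥ v = fun i => b.repr (dualAct p D g x) i := by
        rw [hr, hv]
        exact LinearMap.toMatrix_mulVec_repr b b _ x
      rw [this, hv]
      constructor
      · intro h
        exact b.repr.injective (Finsupp.ext fun i => congrFun h i)
      · intro h
        rw [h]
    rw [key]
    show dualAct p D g x = x ↔ ∀ d : D,
      ZMod.stdAddChar ((x : D → ZMod p) (MulAut.conjNormal g d)) =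
        ZMod.stdAddChar ((x : D → ZMod p) d)
    simp only [ZMod.injective_stdAddChar.eq_iff]
    constructor
    · intro h d
      have := congrFun (congrArg Subtype.val h) (MulAut.conjNormal g d)
      simpa [dualAct, mul_assoc] using this.symm
    · intro h
      refine Subtype.ext (funext fun d => ?_)
      have := h (MulAut.conjNormal g⁻¹ d)
      simpa [dualAct, mul_assoc] using this.symm

end Cfsg.Agent.EqDeg71
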