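import Mathlib

/-!
# A matrix algebra of `G` in which the stabilisers of prime-field points commute

The operators `L i x w = ∑ g, (r g⁻¹ w) i • ρ (g x g⁻¹)` commute among themselves at all
prime-field points, so at every `w`; a common row eigenvector at a `w` with stabiliser `H`
gives `[G : H]` independent `H`-stable subspaces, each of dimension squared at least
`dim span ρ(H)`, which forces `H = ⊤`.
-/

set_option linter.unusedSectionVars false

namespace Cfsg.Agent.EqDeg71

universe u v

variable {G : Type u} [Group G] [Fintype G] {k : Type v} [Field k] [IsAlgClosed k]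
  {p : ℕ} [Fact p.Prime] [CharP k p]

open scoped Matrix

section Aux

variable {N : ℕ}

theorem fiber_sum {ι : Type*} [Fintype ι] [DecidableEq G] {V : Type*} [AddCommGroup V] [Module k V]
    (a : ι → k) (f : ι → G) (φ : G → V) :
    ∑ y, (∑ i with f i = y, a i) • φ y = ∑ i, a i • φ (f i) := by
  rw [← Finset.sum_fiberwise Finset.univ f fun i => a i • φ (f i)]
  refine Finset.sum_congr rfl fun y _ => ?_
  rw [Finset.sum_smul]
  exact Finset.sum_congr rfl fun i hi => by rw [(Finset.mem_filter.1 hi).2]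

theorem comb_eq {ι κ : Type*} [Fintype ι] [Fintype κ] {τ : G → k}
    {ρ : G →* Matrix (Fin N) (Fin N) k}
    (hρ : ∀ z : G → k, (∑ g, z g • ρ g = 0 ↔ ∀ x, ∑ g, z g * τ (g * x) = 0))
    (a : ι → k) (f : ι → G) (b : κ → k) (g : κ → G)
    (h : ∀ x, ∑ i, a i * τ (f i * x) = ∑ j, b j * τ (g j * x)) :
    ∑ i, a i • ρ (f i) = ∑ j, b j • ρ (g j) := by
  classical
  have h0 := (hρ fun y => (∑ i with f i = y, a i) - ∑ j with g j = y, b j).2 fun x => by
    have e1 := fiber_sum a f fun y => τ (y * x)
    have e2 := fiber_sum b g fun y => τ (y * x)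
    simp only [smul_eq_mul] at e1 e2
    simp only [sub_mul, Finset.sum_sub_distrib]
    rw [e1, e2, h x, sub_self]
  simp only [sub_smul, Finset.sum_sub_distrib] at h0
  rwa [fiber_sum a f ρ, fiber_sum b g ρ, sub_eq_zero] at h0

theorem bilin_eq_zero {n : ℕ} {V : Type*} [AddCommGroup V] [Module k V]
    (C : Fin n → Fin n → V) (hd : ∀ l, C l l = 0) (ha : ∀ l l', C l l' + C l' l = 0)
    (w : Fin n → k) : ∑ l, ∑ l', (w l * w l') • C l l' = 0 := by
  classical
  rw [← Fintype.sum_prod_type' fun l l' => (w l * w l') • C l l']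
  refine Finset.sum_involution (fun x _ => x.swap) (fun x _ => ?_) (fun x _ hne hx => ?_)
    (fun _ _ => Finset.mem_univ _) (fun x _ => Prod.swap_swap x)
  · show _ + (w x.2 * w x.1) • C x.2 x.1 = 0
    rw [mul_comm (w x.2), ← smul_add, ha, smul_zero]
  · apply hne
    have : x.1 = x.2 := congrArg Prod.snd hx
    rw [this, hd, smul_zero]

theorem exists_common_vec {ι : Type*} (f : ι → Module.End k (Fin N → k))
    (hN : 0 < N) (hf : ∀ a b, f a * f b = f b * f a) (s : Finset ι) :
    ∃ μ : ι → k, ∃ η : Fin N → k, η ≠ 0 ∧ ∀ a ∈ s, f a η = μ a • η := by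
  classical
  induction s using Finset.induction with
  | empty =>
    exact ⟨0, fun _ => 1, fun h => one_ne_zero (congrFun h ⟨0, hN⟩), fun a ha => by simp at ha⟩
  | @insert a s ha ih =>
    obtain ⟨μ, η, hη0, hη⟩ := ih
    let V : Submodule k (Fin N → k) :=
      { carrier := {v | ∀ b ∈ s, f b v = μ b • v}
        add_mem' := fun {u v} hu hv b hb => by rw [map_add, hu b hb, hv b hb, smul_add]
        zero_mem' := fun b hb => by simp
        smul_mem' := fun c u hu b hb => by rw [map_smul, hu b hb, smul_comm] }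
    have hinv : ∀ v ∈ V, f a v ∈ V := fun v hv b hb => by
      rw [← Module.End.mul_apply, hf b a, Module.End.mul_apply, hv b hb, map_smul]
    have : Nontrivial V := Submodule.nontrivial_iff_ne_bot.2 fun h =>
      hη0 ((Submodule.eq_bot_iff V).1 h η hη)
    obtain ⟨c, hc⟩ := Module.End.exists_eigenvalue ((f a).restrict hinv)
    obtain ⟨⟨v, hv⟩, hvc⟩ := hc.exists_hasEigenvector
    refine ⟨Function.update μ a c, v, fun h => hvc.2 (Subtype.ext h), fun b hb => ?_⟩
    rcases Finset.mem_insert.1 hb with rfl | hb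
    · rw [Function.update_self]
      exact congrArg Subtype.val hvc.apply_eq_smul
    · rw [Function.update_of_ne (ne_of_mem_of_not_mem hb ha)]
      exact hv b hb

theorem exists_dot_injective {n : ℕ} {Q : Type*} [Finite Q] {w : Q → Fin n → k}
    (hw : Function.Injective w) : ∃ t : Fin n → k, Function.Injective fun q => t ⬝ᵥ w q := by
  classical
  let P : {x : Q × Q // x.1 ≠ x.2} → Submodule k (Fin n → k) := fun x =>
    { carrier := {t | t ⬝ᵥ (w x.1.1 - w x.1.2) = 0}
      add_mem' := fun {a b} ha hb => by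
        show (a + b) ⬝ᵥ _ = 0
        rw [add_dotProduct, ha, hb, add_zero]
      zero_mem' := zero_dotProduct _
      smul_mem' := fun c a ha => by
        show (c • a) ⬝ᵥ _ = 0
        rw [smul_dotProduct, ha, smul_zero] }
  obtain ⟨t, ht⟩ := Submodule.exists_forall_notMem_of_forall_ne_top P fun x htop => by
    obtain ⟨i, hi⟩ := Function.ne_iff.1 (fun h => x.2 (hw h))
    have hm : (Pi.single i (1 : k)) ∈ P x := by rw [htop]; exact Submodule.mem_top
    have : (Pi.single i (1 : k)) ⬝ᵥ (w x.1.1 - w x.1.2) = 0 := hm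
    rw [single_dotProduct, one_mul, Pi.sub_apply, sub_eq_zero] at this
    exact hi this
  refine ⟨t, fun q q' h => by_contra fun hne => ht ⟨(q, q'), hne⟩ ?_⟩
  show t ⬝ᵥ (w q - w q') = 0
  rw [dotProduct_sub]
  exact sub_eq_zero.2 h

end Aux

theorem eq_top_of_rep (H : Subgroup G) [H.Normal] [Fintype H] {n N : ℕ} (τ : G → k) (c c' : k)
    (hc : c ≠ 0) (hc' : c' ≠ 0)
    (hcl : ∀ g x, τ (g * x * g⁻¹) = τ x)
    (hoff : ∀ g, g ∉ H → τ g = 0)
    (h2 : ∀ y x, ∑ g, τ (g * y * g⁻¹ * x) = c * τ y * τ x)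
    (h3 : ∀ x, ∑ u, τ u * τ (u⁻¹ * x) = c * τ x)
    (h4 : ∀ y ∈ H, ∀ x, ∑ h : H, τ ((h : G) * y * (h : G)⁻¹ * x) = c' * τ y * τ x)
    (hN : 0 < N) (ρ : G →* Matrix (Fin N) (Fin N) k)
    (hspan : Submodule.span k (Set.range ρ) = ⊤)
    (hρ : ∀ z : G → k, (∑ g, z g • ρ g = 0 ↔ ∀ x, ∑ g, z g * τ (g * x) = 0))
    (r : G →* GL (Fin n) (ZMod p)) (hker : r.ker = H)
    (h6 : ∀ (v : Fin n → ZMod p) (U : Subgroup G) [Fintype U],
      (∀ g, g ∈ U ↔ (r g : Matrix (Fin n) (Fin n) (ZMod p)) *ᵥ v = v) → ∀ a b x : G,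
        ∑ s : U, ∑ t : U, τ (((s : G) * a * (s : G)⁻¹) * ((t : G) * b * (t : G)⁻¹) * x) =
          ∑ s : U, ∑ t : U, τ (((t : G) * b * (t : G)⁻¹) * ((s : G) * a * (s : G)⁻¹) * x)) :
    H = ⊤ := by
  classical
  -- the scalar extension of `r`
  let cst : ZMod p →+* k := ZMod.castHom (dvd_refl p) k
  have cinj : Function.Injective cst := cst.injective
  let R : G → Matrix (Fin n) (Fin n) k := fun g => (r g : Matrix (Fin n) (Fin n) (ZMod p)).map cst
  have Rmul : ∀ g h, R (g * h) = R g * R h := fun g h => by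
    simp only [R, map_mul, Units.val_mul, Matrix.map_mul]
  have Rone : ∀ g ∈ H, R g = 1 := fun g hg => by
    have : r g = 1 := by rwa [← MonoidHom.mem_ker, hker]
    simp [R, this, Matrix.map_one cst (map_zero cst) (map_one cst)]
  have Rcast : ∀ g (v : Fin n → ZMod p),
      R g *ᵥ (cst ∘ v) = cst ∘ ((r g : Matrix (Fin n) (Fin n) (ZMod p)) *ᵥ v) := fun g v => by
    funext i
    simp only [R, Function.comp_apply, RingHom.map_mulVec]
  -- the operators
  let L : Fin n × G → (Fin n → k) → Matrix (Fin N) (Fin N) k := fun a w =>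
    ∑ g, (R g⁻¹ *ᵥ w) a.1 • ρ (g * a.2 * g⁻¹)
  have Leq : ∀ a w h, L a (R h *ᵥ w) = ρ h * L a w * ρ h⁻¹ := fun a w h => by
    simp only [L, Finset.mul_sum, Finset.sum_mul]
    refine Fintype.sum_equiv (Equiv.mulLeft h⁻¹) _ _ fun g => ?_
    rw [Equiv.coe_mulLeft, Matrix.mulVec_mulVec, ← Rmul, mul_smul_comm, smul_mul_assoc, ← map_mul,
      ← map_mul]
    congr 2
    · rw [mul_inv_rev, inv_inv]
    · group
  have Lcomm : ∀ a w, ∀ h ∈ H, L a w * ρ h = ρ h * L a w := fun a w h hh => by
    have e := Leq a w h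
    rw [Rone h hh, Matrix.one_mulVec] at e
    conv_lhs => rw [e]
    rw [mul_assoc _ (ρ h⁻¹), ← map_mul, inv_mul_cancel, map_one, mul_one]
  -- the trace identity
  have conjsum : ∀ y, ∑ x, ρ (x * y * x⁻¹) = (c * τ y) • (1 : Matrix (Fin N) (Fin N) k) :=
    fun y => by
      simpa using comb_eq hρ (fun _ : G => (1 : k)) (fun x => x * y * x⁻¹)
        (fun _ : Unit => c * τ y) (fun _ => 1) (fun x => by simpa using h2 y x)
  have trace1 : ∀ i w, ∑ x, L (i, x) w * ρ x⁻¹
      = (c * c * w i) • (1 : Matrix (Fin N) (Fin N) k) := fun i w => by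
    have e1 : ∀ g, ∑ x, ρ (g * x * g⁻¹) * ρ x⁻¹ = ρ g * ((c * τ g⁻¹) • 1) := fun g => by
      rw [← conjsum, Finset.mul_sum]
      refine Finset.sum_congr rfl fun x _ => ?_
      rw [← map_mul, ← map_mul]
      congr 1
      group
    have e2 : ∀ g, (R g⁻¹ *ᵥ w) i * (c * τ g⁻¹) = (c * w i) * τ g⁻¹ := fun g => by
      by_cases hg : g⁻¹ ∈ H
      · rw [Rone _ hg, Matrix.one_mulVec]; ring
      · rw [hoff _ hg]; ring
    have e3 : ∑ g, τ g⁻¹ • ρ g = c • (1 : Matrix (Fin N) (Fin N) k) := by
      simpa using comb_eq hρ (fun g : G => τ g⁻¹) id (fun _ : Unit => c) (fun _ => 1) fun x => by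
        simp only [Fintype.sum_unique, one_mul, id]
        rw [← h3 x]
        exact Fintype.sum_equiv (Equiv.inv G) _ _ fun g => by simp
    calc ∑ x, L (i, x) w * ρ x⁻¹
        = ∑ g, (R g⁻¹ *ᵥ w) i • ∑ x, ρ (g * x * g⁻¹) * ρ x⁻¹ := by
          simp only [L, Finset.sum_mul, smul_mul_assoc, Finset.smul_sum]
          exact Finset.sum_comm
      _ = ∑ g, (c * w i) • (τ g⁻¹ • ρ g) := Finset.sum_congr rfl fun g _ => by
          rw [e1, mul_smul_comm, mul_one, smul_smul, smul_smul, e2]
      _ = (c * c * w i) • 1 := by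
          rw [← Finset.smul_sum, e3, smul_smul]
          congr 1
          ring
  -- commutation at prime-field points
  have Lpt : ∀ a b (v : Fin n → ZMod p), Commute (L a (cst ∘ v)) (L b (cst ∘ v)) := by
    intro a b v
    let U : Subgroup G :=
      { carrier := {g | (r g : Matrix (Fin n) (Fin n) (ZMod p)) *ᵥ v = v}
        mul_mem' := fun {x y} hx hy => by
          show (r (x * y) : Matrix (Fin n) (Fin n) (ZMod p)) *ᵥ v = v
          rw [map_mul, Units.val_mul, ← Matrix.mulVec_mulVec, hy, hx]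
        one_mem' := by simp
        inv_mem' := fun {x} hx => by
          show (r x⁻¹ : Matrix (Fin n) (Fin n) (ZMod p)) *ᵥ v = v
          conv_lhs => rw [← (hx : (r x : Matrix (Fin n) (Fin n) (ZMod p)) *ᵥ v = v)]
          rw [Matrix.mulVec_mulVec, ← Units.val_mul, ← map_mul, inv_mul_cancel, map_one,
            Units.val_one, Matrix.one_mulVec] }
    obtain ⟨T, hT, -⟩ := Subgroup.exists_isComplement_right U 1
    let S : G → Matrix (Fin N) (Fin N) k := fun y => ∑ s : U, ρ (s * y * (s : G)⁻¹)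
    have hL : ∀ a : Fin n × G,
        L a (cst ∘ v) = ∑ t : T, (R (t : G)⁻¹ *ᵥ (cst ∘ v)) a.1 • S (t * a.2 * (t : G)⁻¹) :=
      fun a => by
        simp only [L, S, Finset.smul_sum]
        rw [Finset.sum_comm, ← Fintype.sum_prod_type'
          (f := fun (s : U) (t : T) => (R (t : G)⁻¹ *ᵥ (cst ∘ v)) a.1 •
            ρ (s * (t * a.2 * (t : G)⁻¹) * (s : G)⁻¹))]
        have hTb : Function.Bijective fun x : U × T => (x.1 : G) * (x.2 : G) := hT
        refine (Fintype.sum_equiv (Equiv.ofBijective _ hTb) _ _ fun x => ?_).symm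
        have e : R ((x.1 : G) * (x.2 : G))⁻¹ *ᵥ (cst ∘ v) = R (x.2 : G)⁻¹ *ᵥ (cst ∘ v) := by
          rw [mul_inv_rev, Rmul, ← Matrix.mulVec_mulVec, Rcast (x.1 : G)⁻¹,
            (U.inv_mem x.1.2 : (r (x.1 : G)⁻¹ : Matrix (Fin n) (Fin n) (ZMod p)) *ᵥ v = v)]
        simp only [Equiv.ofBijective_apply]
        rw [e]
        congr 2
        group
    have hS : ∀ y z, Commute (S y) (S z) := fun y z => by
      have e := comb_eq hρ (fun _ : U × U => (1 : k))
        (fun x => (x.1 * y * (x.1 : G)⁻¹) * (x.2 * z * (x.2 : G)⁻¹))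
        (fun _ : U × U => (1 : k))
        (fun x => (x.2 * z * (x.2 : G)⁻¹) * (x.1 * y * (x.1 : G)⁻¹))
        (fun x => by
          simp only [Fintype.sum_prod_type, one_mul]
          exact h6 v U (fun _ => Iff.rfl) y z x)
      simp only [one_smul, Fintype.sum_prod_type, map_mul] at e
      show S y * S z = S z * S y
      simp only [S, Finset.mul_sum, Finset.sum_mul, map_mul]
      rw [Finset.sum_comm]
      refine e.trans ?_
      rw [Finset.sum_comm]
    rw [hL, hL]
    exact Commute.sum_left _ _ _ fun t _ => Commute.sum_right _ _ _ fun u _ =>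
      ((hS _ _).smul_right _).smul_left _
  -- and everywhere
  have Llin : ∀ a w, L a w = ∑ l, w l • L a (Pi.single l 1) := fun a w => by
    simp only [L, Finset.smul_sum]
    rw [Finset.sum_comm]
    refine Finset.sum_congr rfl fun g _ => ?_
    simp only [Matrix.mulVec_single_one, smul_smul, ← Finset.sum_smul]
    congr 1
    simp [Matrix.mulVec, dotProduct, mul_comm]
  have Lall : ∀ a b w, L a w * L b w = L b w * L a w := fun a b w => by
    let e : Fin n → Fin n → k := fun l => Pi.single l 1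
    let C : Fin n → Fin n → Matrix (Fin N) (Fin N) k := fun l l' =>
      L a (e l) * L b (e l') - L b (e l') * L a (e l)
    have he : ∀ l, e l = cst ∘ Pi.single l 1 := fun l => by
      funext i
      rcases eq_or_ne i l with rfl | h
      · simp [e]
      · simp [e, h]
    have Ladd : ∀ a u v, L a (u + v) = L a u + L a v := fun a u v => by
      simp only [L, Matrix.mulVec_add, Pi.add_apply, add_smul, Finset.sum_add_distrib]
    have pt : ∀ l, C l l = 0 := fun l => by
      simp only [C, he]
      exact sub_eq_zero.2 (Lpt a b _)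
    have pt2 : ∀ l l', C l l' + C l' l = 0 := fun l l' => by
      have h := sub_eq_zero.2 (Lpt a b (Pi.single l 1 + Pi.single l' 1)).eq
      have hs : (cst ∘ (Pi.single l 1 + Pi.single l' 1) : Fin n → k) = e l + e l' := by
        rw [he, he]; funext i; simp
      rw [hs, Ladd, Ladd] at h
      have p1 := pt l
      have p2 := pt l'
      simp only [C] at p1 p2 ⊢
      simp only [add_mul, mul_add] at h
      calc _ = (L a (e l) * L b (e l) + L a (e l') * L b (e l) +
              (L a (e l) * L b (e l') + L a (e l') * L b (e l')) -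
            (L b (e l) * L a (e l) + L b (e l') * L a (e l) +
              (L b (e l) * L a (e l') + L b (e l') * L a (e l')))) -
            (L a (e l) * L b (e l) - L b (e l) * L a (e l)) -
            (L a (e l') * L b (e l') - L b (e l') * L a (e l')) := by abel
        _ = 0 := by rw [h, p1, p2]; simp
    have q := bilin_eq_zero C pt pt2 w
    rw [← sub_eq_zero, Llin a w, Llin b w, ← q]
    simp only [C, e, Finset.sum_mul, Finset.mul_sum, smul_sub, Finset.sum_sub_distrib,
      smul_mul_assoc, mul_smul_comm, Finset.smul_sum, smul_smul]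
    congr 1
    · rw [Finset.sum_comm]
      exact Finset.sum_congr rfl fun l _ => Finset.sum_congr rfl fun l' _ => by rw [mul_comm]
  -- a vector with stabiliser `H`
  obtain ⟨w, hw⟩ : ∃ w : Fin n → k, ∀ g, g ∉ H → R g *ᵥ w ≠ w := by
    obtain ⟨w, hw⟩ := Submodule.exists_forall_notMem_of_forall_ne_top
      (fun g : {g : G // g ∉ H} => LinearMap.eqLocus (R g).mulVecLin LinearMap.id)
      (fun g htop => g.2 (hker ▸ MonoidHom.mem_ker.2 (by
        refine Units.ext (Matrix.map_injective cinj ?_)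
        show R g = (1 : Matrix (Fin n) (Fin n) (ZMod p)).map cst
        rw [Matrix.map_one cst (map_zero cst) (map_one cst)]
        refine Matrix.ext_of_mulVec_single fun i => ?_
        have : Pi.single i (1 : k) ∈ LinearMap.eqLocus (R g).mulVecLin LinearMap.id := by
          rw [htop]; exact Submodule.mem_top
        rw [Matrix.one_mulVec]
        simpa using this)))
    exact ⟨w, fun g hg => hw ⟨g, hg⟩⟩
  -- the subspaces
  obtain ⟨μ, ξ, hξ0, hξ⟩ := exists_common_vec (fun a => (L a w).vecMulLinear) hN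
    (fun a b => LinearMap.ext fun η => by
      simp only [Module.End.mul_apply, Matrix.vecMulLinear_apply, Matrix.vecMul_vecMul, Lall a b w])
    Finset.univ
  let Z : G ⧸ H → Submodule k (Fin N → k) := fun q =>
    { carrier := {η | ∀ a, η ᵥ* L a (R q.out *ᵥ w) = μ a • η}
      add_mem' := fun {u v} hu hv a => by rw [Matrix.add_vecMul, hu a, hv a, smul_add]
      zero_mem' := fun a => by simp
      smul_mem' := fun t u hu a => by rw [Matrix.smul_vecMul, hu a, smul_comm] }
  have Zne : ∀ q, Z q ≠ ⊥ := fun q hq => by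
    have hm : ξ ᵥ* ρ q.out⁻¹ ∈ Z q := fun a => by
      show _ ᵥ* L a (R q.out *ᵥ w) = _
      rw [Leq, Matrix.vecMul_vecMul, mul_assoc, ← mul_assoc (ρ q.out⁻¹), ← map_mul, inv_mul_cancel,
        map_one, one_mul, ← Matrix.vecMul_vecMul, ← Matrix.smul_vecMul]
      have := hξ a (Finset.mem_univ a)
      rw [Matrix.vecMulLinear_apply] at this
      rw [this]
    rw [hq, Submodule.mem_bot] at hm
    apply hξ0
    have := congrArg (fun η => η ᵥ* ρ q.out) hm
    simpa [Matrix.vecMul_vecMul, ← map_mul] using this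
  have Zstab : ∀ q, ∀ h ∈ H, ∀ η ∈ Z q, η ᵥ* ρ h ∈ Z q := fun q h hh η hη a => by
    show _ ᵥ* L a (R q.out *ᵥ w) = _
    rw [Matrix.vecMul_vecMul, ← Lcomm _ _ h hh, ← Matrix.vecMul_vecMul, hη a, Matrix.smul_vecMul]
  -- independence
  let wq : G ⧸ H → Fin n → k := fun q => R q.out *ᵥ w
  have winj : Function.Injective wq := fun q q' h => by
    by_contra hne
    refine hw (q.out⁻¹ * q'.out) (fun hm => hne ?_) ?_
    · rw [← QuotientGroup.out_eq' q, ← QuotientGroup.out_eq' q']
      exact QuotientGroup.eq.2 hm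
    · have h' : R q.out *ᵥ w = R q'.out *ᵥ w := h
      rw [Rmul, ← Matrix.mulVec_mulVec, ← h',
        Matrix.mulVec_mulVec, ← Rmul, inv_mul_cancel, Rone 1 H.one_mem, Matrix.one_mulVec]
  obtain ⟨t, ht⟩ := exists_dot_injective winj
  let T : Module.End k (Fin N → k) := (∑ i, t i • ∑ x, μ (i, x) • ρ x⁻¹).vecMulLinear
  have Zeig : ∀ q, Z q ≤ T.eigenspace (c * c * (t ⬝ᵥ wq q)) := fun q η hη => by
    rw [Module.End.mem_eigenspace_iff]
    have hK : ∀ i, η ᵥ* ∑ x, μ (i, x) • ρ x⁻¹ = (c * c * wq q i) • η := fun i => by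
      calc η ᵥ* ∑ x, μ (i, x) • ρ x⁻¹
          = ∑ x, (η ᵥ* L (i, x) (wq q)) ᵥ* ρ x⁻¹ := by
            rw [Matrix.vecMul_sum]
            refine Finset.sum_congr rfl fun x _ => ?_
            rw [hη (i, x), Matrix.vecMul_smul, Matrix.smul_vecMul]
        _ = _ := by
            simp only [Matrix.vecMul_vecMul]
            rw [← Matrix.vecMul_sum, trace1, Matrix.vecMul_smul, Matrix.vecMul_one]
    simp only [T, Matrix.vecMulLinear_apply, Matrix.vecMul_sum, Matrix.vecMul_smul, hK, smul_smul,
      ← Finset.sum_smul, dotProduct, Finset.mul_sum]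
    exact congrArg (· • η) (Finset.sum_congr rfl fun i _ => by ring)
  have Zind : iSupIndep Z :=
    (T.eigenspaces_iSupIndep.comp (f := fun q => c * c * (t ⬝ᵥ wq q))
      (fun q q' h => ht (mul_left_cancel₀ (mul_ne_zero hc hc) h))).mono Zeig
  have sum_le : ∑ q, Module.finrank k (Z q) ≤ N := by
    have := LinearMap.finrank_le_finrank_of_injective Zind.dfinsupp_lsum_injective
    rw [(DFinsupp.linearEquivFunOnFintype (R := k)).finrank_eq, Module.finrank_pi_fintype] at this
    simpa using this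
  -- dimensions
  let A : Submodule k (Matrix (Fin N) (Fin N) k) := Submodule.span k (Set.range fun h : H => ρ h)
  have Ast : ∀ q, ∀ M ∈ A, ∀ η ∈ Z q, η ᵥ* M ∈ Z q := fun q M hM η hη => by
    induction hM using Submodule.span_induction with
    | mem M hM => obtain ⟨h, rfl⟩ := hM; exact Zstab q _ h.2 η hη
    | zero => rw [Matrix.vecMul_zero]; exact zero_mem _
    | add x y _ _ hx hy => rw [Matrix.vecMul_add]; exact add_mem hx hy
    | smul s x _ hx => rw [Matrix.vecMul_smul]; exact Submodule.smul_mem _ _ hx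
  have lower : ∀ q, Module.finrank k A ≤ Module.finrank k (Z q) * Module.finrank k (Z q) := by
    intro q
    let F : A →ₗ[k] Module.End k (Z q) :=
      { toFun := fun M => ((M : Matrix (Fin N) (Fin N) k).vecMulLinear).restrict
          (p := Z q) (q := Z q) (fun η hη => Ast q _ M.2 η hη)
        map_add' := fun x y => by
          ext η i
          exact congrFun (Matrix.vecMul_add (x : Matrix (Fin N) (Fin N) k) y (η : Fin N → k)) i
        map_smul' := fun s x => by
          ext η i
          exact congrFun (Matrix.vecMul_smul (η : Fin N → k) s (x : Matrix (Fin N) (Fin N) k)) i }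
    have inj : Function.Injective F := by
      rw [injective_iff_map_eq_zero]
      rintro ⟨M, hM⟩ hF
      have kill : ∀ η ∈ Z q, η ᵥ* M = 0 := fun η hη =>
        congrArg Subtype.val (LinearMap.congr_fun hF ⟨η, hη⟩)
      obtain ⟨z, rfl⟩ := (Submodule.mem_span_range_iff_exists_fun k).1 hM
      obtain ⟨η, hη, hη0⟩ := (Submodule.ne_bot_iff _).1 (Zne q)
      have zero : ∀ b ∈ H, ∑ h : H, z h * τ (h * b) = 0 := fun b hb => by
        have e1 : η ᵥ* ∑ s : H, ρ s * ((∑ h : H, z h • ρ h) * ρ b) * ρ (s : G)⁻¹ = 0 := by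
          rw [Matrix.vecMul_sum]
          refine Finset.sum_eq_zero fun s _ => ?_
          rw [← Matrix.vecMul_vecMul, ← Matrix.vecMul_vecMul, ← Matrix.vecMul_vecMul,
            kill _ (Zstab q _ s.2 η hη), Matrix.zero_vecMul, Matrix.zero_vecMul]
        have e2 : ∑ s : H, ρ s * ((∑ h : H, z h • ρ h) * ρ b) * ρ (s : G)⁻¹
            = (c' * ∑ h : H, z h * τ (h * b)) • 1 := by
          simp only [Finset.sum_mul, Finset.mul_sum, smul_mul_assoc, mul_smul_comm, ← map_mul]
          rw [Finset.sum_comm, Finset.sum_smul]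
          refine Finset.sum_congr rfl fun h _ => ?_
          rw [← Finset.smul_sum]
          have e : ∑ s : H, ρ ((s : G) * (h * b) * (s : G)⁻¹) = (c' * τ (h * b)) • 1 := by
            simpa using comb_eq hρ (fun _ : H => (1 : k))
              (fun s : H => (s : G) * (h * b) * (s : G)⁻¹)
              (fun _ : Unit => c' * τ (h * b)) (fun _ => 1) (fun x => by
                simpa using h4 _ (H.mul_mem h.2 hb) x)
          rw [e, smul_smul]
          congr 1
          ring
        rw [e2, Matrix.vecMul_smul, Matrix.vecMul_one, smul_eq_zero] at e1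
        exact (mul_eq_zero.1 (e1.resolve_right hη0)).resolve_left hc'
      refine Subtype.ext ?_
      show ∑ h : H, z h • ρ h = 0
      simpa using comb_eq hρ z (fun h : H => (h : G)) (fun _ : Unit => (0 : k)) (fun _ => 1)
        (fun x => by
          simp only [zero_mul, Finset.sum_const_zero]
          by_cases hx : x ∈ H
          · exact zero x hx
          · exact Finset.sum_eq_zero fun h _ => by
              rw [hoff _ (fun hm => hx ((H.mul_mem_cancel_left h.2).1 hm)), mul_zero])
    simpa [Module.finrank_linearMap] using LinearMap.finrank_le_finrank_of_injective inj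
  have upper : N * N ≤ Nat.card (G ⧸ H) * Module.finrank k A := by
    let Ψ : (G ⧸ H → A) →ₗ[k] Matrix (Fin N) (Fin N) k :=
      ∑ q, (LinearMap.mulLeft k (ρ q.out)).comp (A.subtype.comp (LinearMap.proj q))
    have hsurj : LinearMap.range Ψ = ⊤ := by
      rw [eq_top_iff, ← hspan, Submodule.span_le]
      rintro _ ⟨g, rfl⟩
      let q : G ⧸ H := QuotientGroup.mk g
      have hm : q.out⁻¹ * g ∈ H := QuotientGroup.eq.1 (QuotientGroup.out_eq' q)
      refine ⟨Pi.single q ⟨ρ (q.out⁻¹ * g), Submodule.subset_span ⟨⟨_, hm⟩, rfl⟩⟩, ?_⟩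
      simp only [Ψ, LinearMap.coe_sum, Finset.sum_apply, LinearMap.comp_apply,
        LinearMap.proj_apply, Submodule.subtype_apply, LinearMap.mulLeft_apply]
      rw [Finset.sum_eq_single q (fun b _ hb => by rw [Pi.single_eq_of_ne hb]; simp) (by simp)]
      rw [Pi.single_eq_same, ← map_mul, mul_inv_cancel_left]
    have := LinearMap.finrank_range_le Ψ
    rw [hsurj, finrank_top, Module.finrank_matrix, Module.finrank_pi_fintype] at this
    simpa [Nat.card_eq_fintype_card] using this
  obtain ⟨q₀, -, hq₀⟩ := Finset.exists_min_image Finset.univ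
    (fun q => Module.finrank k (Z q)) Finset.univ_nonempty
  let n₀ := Module.finrank k (Z q₀)
  have hn0 : 0 < n₀ := Nat.pos_of_ne_zero fun h => Zne q₀ (Submodule.finrank_eq_zero.1 h)
  have e1 : Nat.card (G ⧸ H) * n₀ ≤ N := by
    refine le_trans ?_ sum_le
    rw [Nat.card_eq_fintype_card, ← Finset.card_univ, ← smul_eq_mul]
    exact Finset.card_nsmul_le_sum _ _ _ fun q hq => hq₀ q hq
  rw [← Subgroup.index_eq_one, Subgroup.index]
  have hpos : 0 < Nat.card (G ⧸ H) := Nat.card_pos
  have e2 : (Nat.card (G ⧸ H) * n₀) * (Nat.card (G ⧸ H) * n₀)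
      ≤ Nat.card (G ⧸ H) * (n₀ * n₀) :=
    le_trans (Nat.mul_le_mul e1 e1) (le_trans upper (Nat.mul_le_mul le_rfl (lower q₀)))
  nlinarith [Nat.mul_pos hn0 hn0]

end Cfsg.Agent.EqDeg71
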