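import Cfsg.Agent.EqDeg71.KeyAlg
import Cfsg.Agent.EqDeg71.KeyLin

/-!
# The modular criterion
-/

set_option linter.unusedSectionVars false

namespace Cfsg.Agent.EqDeg71

universe u v

variable {G : Type u} [Group G] [Fintype G] {k : Type v} [Field k] [IsAlgClosed k]
  {p : ℕ} [Fact p.Prime] [CharP k p]

open scoped Matrix in
theorem eq_top_of_tau (H : Subgroup G) [H.Normal] [Fintype H] {n : ℕ} (τ : G → k) (c c' : k)
    (hc : c ≠ 0) (hc' : c' ≠ 0) (hτ : τ ≠ 0)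
    (hcl : ∀ g x, τ (g * x * g⁻¹) = τ x)
    (hoff : ∀ g, g ∉ H → τ g = 0)
    (h2 : ∀ y x, ∑ g, τ (g * y * g⁻¹ * x) = c * τ y * τ x)
    (h3 : ∀ x, ∑ u, τ u * τ (u⁻¹ * x) = c * τ x)
    (h4 : ∀ y ∈ H, ∀ x, ∑ h : H, τ ((h : G) * y * (h : G)⁻¹ * x) = c' * τ y * τ x)
    (r : G →* GL (Fin n) (ZMod p)) (hker : r.ker = H)
    (h6 : ∀ (v : Fin n → ZMod p) (U : Subgroup G) [Fintype U],
      (∀ g, g ∈ U ↔ (r g : Matrix (Fin n) (Fin n) (ZMod p)) *ᵥ v = v) → ∀ a b x : G,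
        ∑ s : U, ∑ t : U, τ (((s : G) * a * (s : G)⁻¹) * ((t : G) * b * (t : G)⁻¹) * x) =
          ∑ s : U, ∑ t : U, τ (((t : G) * b * (t : G)⁻¹) * ((s : G) * a * (s : G)⁻¹) * x)) :
    H = ⊤ := by
  obtain ⟨N, ρ, hN, hspan, hρ⟩ := exists_matrix_rep τ c hc hτ hcl h2
  exact eq_top_of_rep H τ c c' hc hc' hcl hoff h2 h3 h4 hN ρ hspan hρ r hker h6

end Cfsg.Agent.EqDeg71
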