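import Mathlib

/-!
# The simple algebra attached to a function behaving like a character of defect zero

`N = {z | ∀ x, ∑ z g * τ (g x) = 0}` is two-sided, `k[G]/N` is simple (for `a ∉ N` some
`τ (a x) ≠ 0`, and `∑ g a x g⁻¹` is then a non-zero scalar), hence a full matrix algebra.
-/

set_option linter.unusedSectionVars false

namespace Cfsg.Agent.EqDeg71

universe u v

variable {G : Type u} [Group G] [Fintype G] {k : Type v} [Field k] [IsAlgClosed k]

namespace KeyAlgAux

/-- The linear extension of `τ` to the group algebra. -/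
noncomputable def extend (τ : G → k) : MonoidAlgebra k G →ₗ[k] k :=
  (Finsupp.linearCombination k τ).comp
    (MonoidAlgebra.coeffLinearEquiv k).toLinearMap

theorem extend_single (τ : G → k) (g : G) (r : k) :
    extend τ (MonoidAlgebra.single g r) = r * τ g := by
  simp [extend]

theorem extend_comm (τ : G → k) (hcl : ∀ g x, τ (g * x * g⁻¹) = τ x)
    (a b : MonoidAlgebra k G) : extend τ (a * b) = extend τ (b * a) := by
  induction a using MonoidAlgebra.induction_linear with
  | zero => simp
  | add u v hu hv => simp [add_mul, mul_add, hu, hv]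
  | single g r =>
    induction b using MonoidAlgebra.induction_linear with
    | zero => simp
    | add u v hu hv => simp [add_mul, mul_add, hu, hv]
    | single h s =>
      rw [MonoidAlgebra.single_mul_single, MonoidAlgebra.single_mul_single, extend_single,
        extend_single, ← hcl h (g * h), mul_comm r s]
      group

/-- The kernel of the form `(a, b) ↦ extend τ (a * b)`. -/
noncomputable def kerIdeal (τ : G → k) (hcl : ∀ g x, τ (g * x * g⁻¹) = τ x) :
    Ideal (MonoidAlgebra k G) where
  carrier := {a | ∀ b, extend τ (a * b) = 0}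
  add_mem' {a a'} ha ha' b := by rw [add_mul, map_add, ha b, ha' b, add_zero]
  zero_mem' b := by rw [zero_mul, map_zero]
  smul_mem' x a ha b := by
    rw [smul_eq_mul, mul_assoc, extend_comm τ hcl, mul_assoc]
    exact ha _

instance (τ : G → k) (hcl : ∀ g x, τ (g * x * g⁻¹) = τ x) : (kerIdeal τ hcl).IsTwoSided :=
  ⟨fun {a} b ha x => by rw [mul_assoc]; exact ha _⟩

/-- The sum of the conjugates of an element. -/
noncomputable def conjSum (a : MonoidAlgebra k G) : MonoidAlgebra k G :=
  ∑ g, MonoidAlgebra.single g (1 : k) * a * MonoidAlgebra.single g⁻¹ (1 : k)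

theorem extend_conjSum_mul (τ : G → k) (c : k)
    (h2 : ∀ y x, ∑ g, τ (g * y * g⁻¹ * x) = c * τ y * τ x)
    (a b : MonoidAlgebra k G) :
    extend τ (conjSum a * b) = c * extend τ a * extend τ b := by
  induction a using MonoidAlgebra.induction_linear with
  | zero => simp [conjSum]
  | add u v hu hv =>
    have h : conjSum (u + v) = conjSum u + conjSum v := by
      simp [conjSum, mul_add, add_mul, Finset.sum_add_distrib]
    rw [h, add_mul, map_add, map_add, hu, hv]
    ring
  | single y r =>
    induction b using MonoidAlgebra.induction_linear with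
    | zero => simp
    | add u v hu hv => rw [mul_add, map_add, map_add, hu, hv]; ring
    | single x s =>
      simp only [conjSum, Finset.sum_mul, map_sum, MonoidAlgebra.single_mul_single, extend_single,
        one_mul, mul_one]
      rw [← Finset.mul_sum, h2]
      ring

end KeyAlgAux

open KeyAlgAux in
theorem exists_matrix_rep (τ : G → k) (c : k) (hc : c ≠ 0) (hτ : τ ≠ 0)
    (hcl : ∀ g x, τ (g * x * g⁻¹) = τ x)
    (h2 : ∀ y x, ∑ g, τ (g * y * g⁻¹ * x) = c * τ y * τ x) :
    ∃ (N : ℕ) (ρ : G →* Matrix (Fin N) (Fin N) k), 0 < N ∧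
      Submodule.span k (Set.range ρ) = ⊤ ∧
      ∀ z : G → k, (∑ g, z g • ρ g = 0 ↔ ∀ x, ∑ g, z g * τ (g * x) = 0) := by
  set A := MonoidAlgebra k G
  set I : Ideal A := kerIdeal τ hcl with hI
  have hmem : ∀ a : A, a ∈ I ↔ ∀ b, extend τ (a * b) = 0 := fun a => Iff.rfl
  have : FiniteDimensional k A :=
    Module.Finite.equiv (MonoidAlgebra.coeffLinearEquiv (S := k) k).symm
  have : FiniteDimensional k (A ⧸ I) :=
    Module.Finite.of_surjective (Ideal.Quotient.mkₐ k I).toLinearMap
      (Ideal.Quotient.mkₐ_surjective k I)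
  have hone : (1 : A) ∉ I := by
    intro h
    apply hτ
    funext x
    have := (hmem 1).1 h (MonoidAlgebra.single x 1)
    simpa [extend_single] using this
  have : Nontrivial (A ⧸ I) := Ideal.Quotient.nontrivial_iff.2
    (fun h => hone (h ▸ Submodule.mem_top))
  have : IsSimpleRing (A ⧸ I) := by
    refine IsSimpleRing.of_eq_bot_or_eq_top fun J => ?_
    by_cases hJ : J = ⊥
    · exact Or.inl hJ
    refine Or.inr (J.one_mem_iff.1 ?_)
    obtain ⟨q, hq, hq0⟩ : ∃ q ∈ J, q ≠ 0 := by
      by_contra h
      push Not at h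
      exact hJ (eq_bot_iff.2 fun q hq => (TwoSidedIdeal.mem_bot _).2 (h q hq))
    obtain ⟨a, rfl⟩ := Ideal.Quotient.mk_surjective q
    have hnot : ¬ ∀ b, extend τ (a * b) = 0 := fun h =>
      hq0 (Ideal.Quotient.eq_zero_iff_mem.2 ((hmem a).2 h))
    push Not at hnot
    obtain ⟨b, hb⟩ := hnot
    have h1 : Ideal.Quotient.mk I (conjSum (a * b)) ∈ J := by
      rw [conjSum, map_sum]
      exact sum_mem fun g _ => by
        rw [map_mul, map_mul, map_mul]
        exact J.mul_mem_right _ _ (J.mul_mem_left _ _ (J.mul_mem_right _ _ hq))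
    have h3 : Ideal.Quotient.mk I (conjSum (a * b)) =
        Ideal.Quotient.mk I (algebraMap k A (c * extend τ (a * b))) := by
      rw [Ideal.Quotient.eq, hmem]
      intro x
      rw [sub_mul, map_sub, extend_conjSum_mul τ c h2, ← Algebra.smul_def, map_smul, smul_eq_mul,
        sub_self]
    have h4 := J.mul_mem_left
      (Ideal.Quotient.mk I (algebraMap k A (c * extend τ (a * b))⁻¹)) _ h1
    rw [h3, ← map_mul, ← map_mul, inv_mul_cancel₀ (mul_ne_zero hc hb), map_one, map_one] at h4
    exact h4
  obtain ⟨N, hN, ⟨e⟩⟩ := IsSimpleRing.exists_algEquiv_matrix_of_isAlgClosed k (A ⧸ I)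
  let f : A →ₐ[k] Matrix (Fin N) (Fin N) k := e.toAlgHom.comp (Ideal.Quotient.mkₐ k I)
  refine ⟨N, (f : A →* Matrix (Fin N) (Fin N) k).comp (MonoidAlgebra.of k G),
    Nat.pos_of_ne_zero hN.1, ?_, ?_⟩
  · rw [eq_top_iff]
    intro m _
    obtain ⟨a, ha⟩ := Ideal.Quotient.mk_surjective (e.symm m)
    have hm : f a = m := by
      change e (Ideal.Quotient.mk I a) = m
      rw [ha, e.apply_symm_apply]
    rw [← hm, MonoidAlgebra.lift_unique f a]
    exact Submodule.sum_mem _ fun g _ => Submodule.smul_mem _ _
      (Submodule.subset_span ⟨g, rfl⟩)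
  · intro z
    have hz : (∑ g, z g • f (MonoidAlgebra.single g 1)) =
        e (Ideal.Quotient.mk I (∑ g, MonoidAlgebra.single g (z g))) := by
      simp only [map_sum]
      refine Finset.sum_congr rfl fun g _ => ?_
      rw [← map_smul, MonoidAlgebra.smul_single', mul_one]
      rfl
    have hx : ∀ x, extend τ ((∑ g, MonoidAlgebra.single g (z g)) * MonoidAlgebra.single x 1) =
        ∑ g, z g * τ (g * x) := by
      intro x
      simp [Finset.sum_mul, extend_single]
    change (∑ g, z g • f (MonoidAlgebra.single g 1)) = 0 ↔ _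
    rw [hz, map_eq_zero_iff _ e.injective, Ideal.Quotient.eq_zero_iff_mem, hmem]
    refine ⟨fun h x => by rw [← hx]; exact h _, fun h b => ?_⟩
    induction b using MonoidAlgebra.induction_linear with
    | zero => simp
    | add u v hu hv => rw [mul_add, map_add, hu, hv, add_zero]
    | single x r =>
      have hr : MonoidAlgebra.single x r = r • (MonoidAlgebra.single x (1 : k)) := by simp
      rw [hr, mul_smul_comm, map_smul, hx x, h x, smul_zero]

end Cfsg.Agent.EqDeg71
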