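import Cfsg.Agent.EqDeg71.Uniform
import Cfsg.Agent.BC85.Pairs.NilpotentFusion
import Cfsg.Agent.BC85.Star.NilpotentMain
import Cfsg.Agent.Lib.BlocksDefect.FongReynolds

/-!
# Equal height-zero degrees with a normal defect group: the pair stabiliser is `D C(D)`
-/

set_option linter.unusedSectionVars false

namespace Cfsg.Agent.EqDeg71

open BlocksCore BlocksDefect BC85

universe u

variable {G : Type u} [Group G] [Fintype G] {p : ℕ} [Fact p.Prime] {M : Ideal AlgInt}
  {B : Set (IrrCharacter G)}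

/-- An injective homomorphism commutes with `pp`. -/
theorem pp_map {A : Type*} [Group A] [Finite A] {A' : Type*} [Group A'] [Finite A'] (f : A →* A')
    (hf : Function.Injective f) (a : A) : pp p (f a) = f (pp p a) := by
  refine pp_eq ?_
  obtain ⟨y, hxy, hc, ⟨k, hk⟩, hy⟩ := pp_spec (p := p) a
  exact ⟨f y, by rw [← map_mul, hxy], hc.map f, ⟨k, by rw [orderOf_injective f hf, hk]⟩,
    by rwa [orderOf_injective f hf]⟩

/-- Constituents of constituents are constituents. -/
theorem constituent_trans {T H : Subgroup G} [Fintype T] [Fintype H] (hHT : H ≤ T)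
    (χ : IrrCharacter G) (ψ : IrrCharacter T) (θ : IrrCharacter H)
    (h1 : classInner (fun t : T => (χ : G → ℂ) t) (ψ : T → ℂ) ≠ 0)
    (h2 : classInner (fun n : H => (ψ : T → ℂ) ⟨(n : G), hHT n.2⟩) (θ : H → ℂ) ≠ 0) :
    classInner (fun n : H => (χ : G → ℂ) n) (θ : H → ℂ) ≠ 0 := by
  classical
  have hchar : IsCharacter T (fun t : T => (χ : G → ℂ) t) :=
    CharCore.isCharacter_restrict (CharCore.irr_isCharacter χ) T
  choose a ha using fun φ : IrrCharacter T =>
    CharCore.IsCharacter.exists_classInner_irr_eq_natCast hchar φ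
  choose k hk using fun φ : IrrCharacter T => CharCore.IsCharacter.exists_classInner_irr_eq_natCast
    (CharCore.isCharacter_comp (CharCore.irr_isCharacter φ) (Subgroup.inclusion hHT)) θ
  have hdec : (fun n : H => (χ : G → ℂ) n) = ∑ φ : IrrCharacter T,
      (a φ : ℂ) • fun n : H => (φ : T → ℂ) ⟨(n : G), hHT n.2⟩ := by
    funext n
    have := congrFun (CharCore.IsCharacter.eq_sum_classInner hchar) ⟨(n : G), hHT n.2⟩
    simpa [Finset.sum_apply, ha] using this
  intro h0
  rw [hdec, CharCore.classInner_sum_left] at h0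
  have h3 : ∑ φ : IrrCharacter T, a φ * k φ = 0 := by
    rw [← Nat.cast_eq_zero (R := ℂ), ← h0]
    push_cast
    refine Finset.sum_congr rfl fun φ _ => ?_
    rw [CharCore.classInner_smul_left, ← hk φ]
    rfl
  rcases mul_eq_zero.mp (Finset.sum_eq_zero_iff.mp h3 ψ (Finset.mem_univ _)) with h | h
  · exact h1 (by rw [ha, h, Nat.cast_zero])
  · exact h2 (by
      rw [show (fun n : H => (ψ : T → ℂ) ⟨(n : G), hHT n.2⟩) =
        fun n => (ψ : T → ℂ) (Subgroup.inclusion hHT n) from rfl, hk, h, Nat.cast_zero])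

theorem stabT_le_of_degrees (hM : IsPModular p M) (hB : IsPBlock M B) (D : Subgroup G) [D.Normal]
    (hD : IsDefectGroup p M B D) {e : Set (IrrCharacter (Subgroup.centralizer (D : Set G)))}
    (hmax : IsMaximalBrauerPair p M B D e) (d : ℕ)
    (hd : ∀ χ : IrrCharacter G, χ ∈ B → blockHeight p B (χ : G → ℂ) = 0 →
      charDegree (χ : G → ℂ) = d) :
    stabT D e ≤ D ⊔ Subgroup.centralizer (D : Set G) := by
  classical
  have := isPrime hM
  have hP := isPGroup_of_isDefectGroup hD
  haveI : (Subgroup.centralizer (D : Set G)).Normal := Subgroup.normal_centralizer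
  obtain ⟨H, hH⟩ : ∃ H, H = D ⊔ Subgroup.centralizer (D : Set G) := ⟨_, rfl⟩
  haveI : H.Normal := hH ▸ Subgroup.sup_normal _ _
  rw [← hH]
  have hDH : D ≤ H := hH ▸ le_sup_left
  have hCH : Subgroup.centralizer (D : Set G) ≤ H := hH ▸ le_sup_right
  have hHN : H ≤ Subgroup.normalizer (D : Set G) := by
    rw [Subgroup.normalizer_eq_top]; exact le_top
  obtain ⟨b, hb, hbp⟩ := exists_block_stable hM hP hDH hCH hHN hmax.1.1.2
    fun u hu g => le_invSubgroup_self D e (hH ▸ hu) g
  have hsub : e ⊆ cset M D (subgroupBlockCoeff H b) := by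
    have h1 := (subgroupBlockCoeff_eq_bp hM hP hDH hCH hHN hb).symm.trans hbp
    have h2 := pair_ext (a := ⟨D, cset M D (subgroupBlockCoeff H b)⟩) (b := ⟨D, e⟩) rfl h1
    rw [Sigma.mk.inj_iff] at h2
    exact (eq_of_heq h2.2).symm.le
  have hind := isInducedBlock_of_over hM hDH hCH hmax.1 hb hsub
  have hbD := defectGroup_of_inducing hM hB hD hDH hHN hind
  obtain ⟨g₀, hg₀, hS⟩ := isDefectGroup_iff.mp hD
  have hG := local_sup_eq_top hH
  have hPH := hP.of_equiv (Subgroup.subgroupOfEquivOfLe hDH).symm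
  have := Fintype.ofFinite H
  have := Fintype.ofFinite (D.subgroupOf H)
  have := Fintype.ofFinite {y : H // ¬ p ∣ orderOf y}
  obtain ⟨θ, hθb, hθk, hθ, -, hθdeg, huniq⟩ := localBlock hM hPH hG hind.1 hbD
  have hkconj : ∀ g : G, ∀ x ∈ D.subgroupOf H,
      ((conjIrr g θ : IrrCharacter H) : H → ℂ) x = (conjIrr g θ : H → ℂ) 1 := by
    intro g x hx
    have hx' : (⟨g * (x : G) * g⁻¹, ‹H.Normal›.conj_mem _ x.2 g⟩ : H) ∈ D.subgroupOf H :=
      Subgroup.mem_subgroupOf.mpr (‹D.Normal›.conj_mem _ hx g)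
    simp only [coe_conjIrr, BlocksDefect.conjFun]
    rw [hθk _ hx']
    exact congrArg _ (Subtype.ext (by simp))
  let T : Subgroup G :=
    { carrier := {x | conjIrr x θ = θ}
      one_mem' := Subtype.ext (by simp [coe_conjIrr, BlocksDefect.conjFun_one])
      mul_mem' := fun {x y} hx hy => by
        show conjIrr (x * y) θ = θ
        rw [← conjIrr_conjIrr, show conjIrr x θ = θ from hx, show conjIrr y θ = θ from hy]
      inv_mem' := fun {x} hx => by
        show conjIrr x⁻¹ θ = θ
        conv_lhs => rw [← (show conjIrr x θ = θ from hx)]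
        exact conjIrr_inv_self _ θ }
  have hfixT : ∀ g ∈ T, conjIrr g θ = θ := fun g hg => hg
  have hT : IsBlockStab T b := by
    refine fun g => ⟨fun hg η hη => ?_, fun h => ?_⟩
    · have hs : SameBlock M (conjIrr g θ : H → ℂ) (conjIrr g η : H → ℂ) :=
        sameBlock_conjIrr g (sameBlock_of_mem hb hθb hη)
      rw [hfixT g hg] at hs
      rw [isPBlock_eq_blockOf hb hθb]
      exact hs
    · exact huniq _ (h θ hθb) (hkconj g)
  have hHT : H ≤ T := fun x hx =>
    Subtype.ext (funext fun n => irr_class θ n ⟨x, hx⟩)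
  -- the pair stabiliser fixes the canonical character
  have hstab : stabT D e ≤ T := by
    intro x hx
    have hinv : ∀ y ∈ stabT D e, ∀ n : H, blockCoeff b ⟨y * n * y⁻¹,
        ‹H.Normal›.conj_mem _ n.2 y⟩ = blockCoeff b n := by
      intro y hy n
      have h1 : bp ⟨D, e⟩ (y * (n : G) * y⁻¹) = bp ⟨D, e⟩ (n : G) := hy.2 (n : G)
      rw [← hbp] at h1
      rw [← subgroupBlockCoeff_coe, ← subgroupBlockCoeff_coe]
      exact h1
    have h2 := omega_conjFun x⁻¹ θ (blockCoeff b)
    rw [show BlocksDefect.conjFun x⁻¹ (blockCoeff b) = blockCoeff b from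
      funext fun n => hinv x⁻¹ ((stabT D e).inv_mem hx) n, inv_inv, omega_blockCoeff,
      omega_blockCoeff, Set.indicator_of_mem hθb, Pi.one_apply] at h2
    have h3 : conjIrr x θ ∈ b := by
      by_contra hno
      rw [Set.indicator_of_notMem hno] at h2
      exact one_ne_zero h2
    exact huniq _ h3 (hkconj x)
  -- `T / H` has order prime to `p`
  have hidx : ¬ p ∣ (H.subgroupOf T).index := by
    obtain ⟨S⟩ : Nonempty (Sylow p T) := inferInstance
    have hle : (S : Subgroup T) ≤ H.subgroupOf T := fun s hs => by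
      refine Subgroup.mem_subgroupOf.mpr
        (mem_of_conjIrr_eq hM hH hind hg₀ hS hθb ?_ (hfixT _ s.2))
      obtain ⟨k, hk⟩ := orderOf_pow_of_mem S.isPGroup' hs
      exact ⟨k, by rw [Subgroup.orderOf_coe, hk]⟩
    exact fun hc => S.not_dvd_index (hc.trans (Subgroup.index_dvd_of_le hle))
  -- pass to `T`
  have := Fintype.ofFinite T
  have := Fintype.ofFinite (H.subgroupOf T)
  have hDT : D ≤ T := hDH.trans hHT
  have hH' : H.subgroupOf T =
      D.subgroupOf T ⊔ Subgroup.centralizer ((D.subgroupOf T : Subgroup T) : Set T) := by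
    have hc : Subgroup.centralizer ((D.subgroupOf T : Subgroup T) : Set T) =
        (Subgroup.centralizer (D : Set G)).subgroupOf T := by
      ext x
      rw [Subgroup.mem_subgroupOf]
      refine ⟨mem_centralizer_of_subgroupOf hDT,
        fun h => Subgroup.mem_centralizer_iff.mpr fun y hy => Subtype.ext ?_⟩
      exact Subgroup.mem_centralizer_iff.mp h (y : G) hy
    rw [hc, ← Subgroup.subgroupOf_sup hDT (hCH.trans hHT), ← hH]
  let ε : H.subgroupOf T ≃* H := Subgroup.subgroupOfEquivOfLe hHT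
  have hεval : ∀ x, ((ε x : H) : G) = (((x : T)) : G) := fun x => rfl
  let θ' : IrrCharacter (H.subgroupOf T) :=
    ⟨(θ : H → ℂ) ∘ ε, CharCore.isIrrCharacter_comp_surjective θ.2 ε.toMonoidHom ε.surjective⟩
  have hθ'val : ∀ x, (θ' : H.subgroupOf T → ℂ) x = (θ : H → ℂ) (ε x) := fun x => rfl
  have hεmem : ∀ x, ε x ∈ D.subgroupOf H ↔ x ∈ (D.subgroupOf T).subgroupOf (H.subgroupOf T) :=
    fun x => Iff.rfl
  have hεpp : ∀ x, pp p (ε x) = ε (pp p x) := fun x => pp_map ε.toMonoidHom ε.injective x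
  have hθ'k : ∀ h : H.subgroupOf T, (h : T) ∈ D.subgroupOf T →
      (θ' : H.subgroupOf T → ℂ) h = (θ' : H.subgroupOf T → ℂ) 1 := fun h hh => by
    rw [hθ'val, hθ'val, map_one]
    exact hθk _ hh
  have hθ'core : IsPCore p ((D.subgroupOf T).subgroupOf (H.subgroupOf T)) θ' := by
    refine ⟨fun x y hx hy hc => ?_, fun g hg => ?_⟩
    · rw [hθ'val, hθ'val, map_mul]
      refine hθ.apply_mul _ _ ((hεmem x).mpr hx) ?_ (hc.map ε)
      rwa [show orderOf (ε y) = orderOf y from orderOf_injective ε.toMonoidHom ε.injective y]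
    · rw [hθ'val]
      refine hθ.eq_zero _ ?_
      rw [hεpp]
      exact fun h => hg ((hεmem _).mp h)
  have hθ'deg : (charDegree (θ' : H.subgroupOf T → ℂ)).factorization p =
      ((D.subgroupOf T).subgroupOf (H.subgroupOf T)).index.factorization p := by
    have h1 : charDegree (θ' : H.subgroupOf T → ℂ) = charDegree (θ : H → ℂ) := by
      simp only [charDegree, hθ'val, map_one]
    have h2 : ((D.subgroupOf T).subgroupOf (H.subgroupOf T)).index = (D.subgroupOf H).index :=
      Subgroup.index_comap_of_surjective (D.subgroupOf H) (f := ε.toMonoidHom) ε.surjective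
    rw [h1, h2, hθdeg]
  have hfix' : ∀ (g : T) (h : H.subgroupOf T), (θ' : H.subgroupOf T → ℂ)
      ⟨g * h * g⁻¹, Subgroup.Normal.conj_mem inferInstance _ h.2 g⟩ =
        (θ' : H.subgroupOf T → ℂ) h := by
    intro g h
    have h1 := congrFun (congrArg Subtype.val (hfixT g g.2)) (ε h)
    rw [coe_conjIrr] at h1
    exact h1
  suffices htop : H.subgroupOf T = ⊤ from fun x hx => by
    have h := Subgroup.subgroupOf_eq_top.mp htop
    exact h (hstab hx)
  refine eq_top_of_uniform hM (D.subgroupOf T) (H.subgroupOf T)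
    (hP.of_equiv (Subgroup.subgroupOfEquivOfLe hDT).symm) hH' hidx θ' hθ'k hθ'deg hθ'core hfix'
    (d / T.index) fun lam h1 ψ hψ => ?_
  -- the twist of `θ` by `lam`
  let μ : IrrCharacter (D.subgroupOf H) :=
    ⟨(lam : D.subgroupOf T → ℂ) ∘
      ((Subgroup.subgroupOfEquivOfLe hDH).trans (Subgroup.subgroupOfEquivOfLe hDT).symm),
      CharCore.isIrrCharacter_comp_surjective lam.2
        ((Subgroup.subgroupOfEquivOfLe hDH).trans
          (Subgroup.subgroupOfEquivOfLe hDT).symm).toMonoidHom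
        ((Subgroup.subgroupOfEquivOfLe hDH).trans
          (Subgroup.subgroupOfEquivOfLe hDT).symm).surjective⟩
  have hμ1 : (μ : D.subgroupOf H → ℂ) 1 = 1 := by
    show (lam : D.subgroupOf T → ℂ) _ = 1
    rw [map_one, h1]
  let θl : IrrCharacter H := ⟨_, isIrrCharacter_tens hPH hG hθ μ⟩
  have hθlb : θl ∈ b := tens_mem hM hPH hG hind.1 hθb hθ μ
  have hovl : classInner (fun n : H => (ψ : T → ℂ) ⟨(n : G), hHT n.2⟩) (θl : H → ℂ) ≠ 0 := by
    have hfun : ∀ x : H.subgroupOf T,
        tens p ((D.subgroupOf T).subgroupOf (H.subgroupOf T))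
          (fun z => (lam : D.subgroupOf T → ℂ) ⟨((z : H.subgroupOf T) : T), z.2⟩)
          (θ' : H.subgroupOf T → ℂ) x = (θl : H → ℂ) (ε x) := by
      intro x
      show _ = tens p (D.subgroupOf H) (μ : D.subgroupOf H → ℂ) (θ : H → ℂ) (ε x)
      rw [tens, tens, hθ'val]
      congr 1
      rw [hεpp]
      by_cases hx : pp p x ∈ (D.subgroupOf T).subgroupOf (H.subgroupOf T)
      · rw [CharInd.extendByZero_mem _ hx, CharInd.extendByZero_mem _ ((hεmem _).mpr hx)]
        rfl
      · rw [CharInd.extendByZero_notMem _ hx,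
          CharInd.extendByZero_notMem _ fun h => hx ((hεmem _).mp h)]
    intro h0
    refine hψ ?_
    rw [← h0, CharCore.classInner_def, CharCore.classInner_def, Nat.card_congr ε.toEquiv]
    congr 1
    exact Fintype.sum_equiv ε.toEquiv _ _ fun x => by
      rw [hfun]
      rfl
  have hover : LiesOver hHT b ψ := ⟨θl, hθlb, hovl⟩
  set χ := indIrr hHT hb hT hover with hχ
  obtain ⟨η, hηb, hη⟩ := exists_constituent_indIrr hHT hb hT hover
  -- `χ` is in `B`
  obtain ⟨χ₁, hχ₁⟩ := isPBlock_nonempty hB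
  have hχB : χ ∈ B := by
    rw [isPBlock_eq_blockOf hB hχ₁]
    intro z
    by_cases hz : z ∈ H
    · have h1 := omega_res_classInd_of_mem hη ⟨z, hz⟩
      rw [show centralChar (χ : G → ℂ) z = inducedCentralChar H (η : H → ℂ) z from h1]
      simpa using memLocalIdeal_neg (hind.2.2 η hηb χ₁ hχ₁ z)
    · have hzc : ∀ x, IsConj z x → x ∉ Subgroup.centralizer (D : Set G) := fun x hx hc => hz (by
        obtain ⟨t, rfl⟩ := isConj_iff.mp hx
        simpa [mul_assoc] using ‹H.Normal›.conj_mem _ (hCH hc) t⁻¹)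
      exact memLocalIdeal_sub (centralChar_memLocalIdeal_of_notMem D hM hP hzc χ₁)
        (centralChar_memLocalIdeal_of_notMem D hM hP hzc χ)
  -- the derived group of `D` is in the kernel of `χ`
  have hθlD : ∀ x : H, (x : G) ∈ ⁅D, D⁆ →
      (θl : H → ℂ) x = (θl : H → ℂ) 1 := by
    intro x hx
    show tens p (D.subgroupOf H) (μ : D.subgroupOf H → ℂ) (θ : H → ℂ) x =
      tens p (D.subgroupOf H) (μ : D.subgroupOf H → ℂ) (θ : H → ℂ) 1
    have hxD : x ∈ D.subgroupOf H := Subgroup.commutator_le_left D D hx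
    have hone : ¬ p ∣ orderOf (1 : H) := by
      rw [orderOf_one]; exact (Fact.out : p.Prime).not_dvd_one
    have e1 := tens_apply_mul hPH hθ (μ : D.subgroupOf H → ℂ) ⟨x, hxD⟩ hone (Commute.one_right _)
    have e2 := tens_apply_mul hPH hθ (μ : D.subgroupOf H → ℂ) 1 hone (Commute.one_right _)
    simp only [mul_one, OneMemClass.coe_one] at e1 e2
    rw [e1, e2, hμ1]
    congr 1
    obtain ⟨φ, hφ⟩ := CharCore.IsCharacter.exists_hom_of_degree_one (CharCore.irr_isCharacter μ) hμ1
    have hker : ⁅D, D⁆ ≤ ((MonoidHom.ker φ).map ((D.subgroupOf H).subtype)).map H.subtype := by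
      rw [Subgroup.commutator_le]
      intro a ha c hc
      set a' : D.subgroupOf H := ⟨⟨a, hDH ha⟩, ha⟩
      set c' : D.subgroupOf H := ⟨⟨c, hDH hc⟩, hc⟩
      refine ⟨_, ⟨a' * c' * a'⁻¹ * c'⁻¹, ?_, rfl⟩, ?_⟩
      · rw [SetLike.mem_coe, MonoidHom.mem_ker, map_mul, map_mul, map_mul, map_inv, map_inv]
        simp [mul_comm, mul_left_comm]
      · simp [a', c', commutatorElement_def]
    obtain ⟨_, ⟨z, hz, rfl⟩, hzx⟩ := hker hx
    obtain rfl : z = ⟨x, hxD⟩ := Subtype.ext (Subtype.ext hzx)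
    rw [hφ]
    simp [MonoidHom.mem_ker.mp hz]
  have hdeg : charDegree (χ : G → ℂ) = T.index * charDegree (ψ : T → ℂ) := by
    have e1 := irr_one_eq χ
    rw [show (χ : G → ℂ) 1 = indFun T (ψ : T → ℂ) 1 from rfl, CharInd.indFun_apply_one,
      irr_one_eq ψ, ← Nat.cast_mul] at e1
    exact Nat.cast_injective e1.symm
  have hconst : classInner (fun x : H => (χ : G → ℂ) x) (θl : H → ℂ) ≠ 0 := by
    refine constituent_trans hHT χ ψ θl ?_ hovl
    rw [← CharInd.classInner_indFun_right T (ψ : T → ℂ) (irr_class χ)]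
    exact (CharCore.classInner_irr_self χ).trans_ne one_ne_zero
  have hk := apply_eq_one_of_constituent H ⁅D, D⁆
    ((Subgroup.commutator_le_left D D).trans hDH) θl hθlD χ hconst
  have h0 := blockHeight_eq_zero_of_kernel hM hB hD ⁅D, D⁆
    (fun a ha c hc => Subgroup.commutator_mem_commutator ha hc) (Subgroup.commutator_le_left D D) hk
  have h3 := hd χ hχB h0
  rw [hdeg] at h3
  rw [← h3, Nat.mul_div_cancel_left _ (Nat.pos_of_ne_zero T.index_ne_zero_of_finite)]

end Cfsg.Agent.EqDeg71
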