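import Cfsg.Agent.BC85.Pairs.NilpotentFusion
import Cfsg.Agent.BC85.Star.NilpotentMain
import Cfsg.Agent.Lib.Fusion.Alperin
import Cfsg.Agent.KB64.NilpotentDegree

/-!
# Normal defect group with trivial inertial quotient; degrees in nilpotent blocks

With `D` normal, `Aut_D(P)` is a normal `p`-subgroup of the automorphism group of a subgroup
`P` in the fusion system of the block, so `D` is the only centric radical subgroup.
-/

set_option linter.unusedSectionVars false

namespace Cfsg.Agent.EqDeg71

open BlocksCore BlocksDefect BC85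

universe u

variable {G : Type u} [Group G] [Fintype G] {p : ℕ} [Fact p.Prime] {M : Ideal AlgInt}
  {B : Set (IrrCharacter G)}

/-- `Aut_D(P)` is stable under conjugation by automorphisms induced from elements. -/
theorem autInducedBy_conj_mem {D K P : Subgroup G} [D.Normal] {α β : MulAut P}
    (hα : α ∈ autInducedBy K P) (hβ : β ∈ autInducedBy D P) :
    α * β * α⁻¹ ∈ autInducedBy D P := by
  obtain ⟨x, -, hx⟩ := Fusion.mem_autInducedBy.mp hα
  obtain ⟨g, hg, hgy⟩ := Fusion.mem_autInducedBy.mp hβ
  refine Fusion.mem_autInducedBy.mpr ⟨x * g * x⁻¹, ‹D.Normal›.conj_mem g hg x, fun z => ?_⟩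
  have hz : ((α⁻¹ z : P) : G) = x⁻¹ * z * x := by
    have h := hx (α⁻¹ z)
    rw [show α (α⁻¹ z) = z from α.apply_symm_apply z] at h
    rw [h]
    group
  rw [MulAut.mul_apply, MulAut.mul_apply, hx, hgy, hz]
  group

theorem isNilpotentBlock_of_stab (hM : IsPModular p M) (D : Subgroup G) [D.Normal]
    {e : Set (IrrCharacter (Subgroup.centralizer (D : Set G)))}
    (hmax : IsMaximalBrauerPair p M B D e)
    (hstab : stabT D e ≤ D ⊔ Subgroup.centralizer (D : Set G)) :
    IsNilpotentBlock p M B := by
  have hF := isBlockFusionSystemOn_blockFusion hM hmax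
  have hDp : IsPGroup p D := hmax.1.1.1
  set F := blockFusion hM hmax.1.1
  have key : ∀ P : Subgroup G, F.IsCentric P → F.IsRadical p P → F.IsFullyNormalized P →
      F.autGroup P ≤ (innerFusionSystem D).autGroup P := by
    intro P hc hr _
    obtain ⟨f, hf⟩ := exists_below hM hmax.1.1 hc.1
    have hA := autGroup_eq hM hF hf
    have hle : autInducedBy D P ≤ F.autGroup P := Fusion.autInducedBy_le_autGroup hc.1
    have hn : ((autInducedBy D P).subgroupOf (F.autGroup P)).Normal := by
      refine ⟨fun β hβ α => ?_⟩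
      refine Subgroup.mem_subgroupOf.mpr ?_
      have hα : (α : MulAut P) ∈ autInducedBy (stabT P f) P := hA ▸ α.2
      simpa using autInducedBy_conj_mem hα (Subgroup.mem_subgroupOf.mp hβ)
    have hp : IsPGroup p (autInducedBy D P) := by
      rw [← Fusion.range_conjAutHom]
      exact (hDp.to_le inf_le_left).of_surjective (Fusion.conjAutHom D P).rangeRestrict
        (Fusion.conjAutHom D P).rangeRestrict_surjective
    have hinn : autInducedBy D P ≤ Cfsg.Inn P := by
      rw [← hr.2, ← Subgroup.map_subgroupOf_eq_of_le hle]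
      refine Subgroup.map_mono (le_sSup ⟨hn, ?_⟩)
      exact hp.comap_of_injective _ (Subgroup.subtype_injective _)
    have hN : FusionSystem.normalizerIn D P ≤ P := by
      intro g hg
      have hmem : Fusion.conjAutHom D P ⟨g, hg⟩ ∈ autInducedBy D P := by
        rw [← Fusion.range_conjAutHom]
        exact ⟨_, rfl⟩
      obtain ⟨a, ha, hau⟩ := Fusion.mem_inn.mp (hinn hmem)
      have hmem' : a⁻¹ * g ∈ FusionSystem.centralizerIn D P := by
        refine ⟨D.mul_mem (D.inv_mem (hc.1 ha)) hg.1,
          Subgroup.mem_centralizer_iff.mpr fun q hq => ?_⟩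
        have h1 : g * q * g⁻¹ = a * q * a⁻¹ := hau ⟨q, hq⟩
        calc q * (a⁻¹ * g) = a⁻¹ * (a * q * a⁻¹) * g := by group
          _ = a⁻¹ * (g * q * g⁻¹) * g := by rw [h1]
          _ = a⁻¹ * g * q := by group
      have h2 := P.mul_mem ha (hc.2 P (Fusion.isConj_refl hc.1) hmem')
      rwa [mul_inv_cancel_left] at h2
    obtain rfl | hlt := eq_or_lt_of_le hc.1
    · obtain rfl : f = e := below_unique hM hmax.1.1 hf Relation.ReflTransGen.refl
      intro α hα
      rw [hA, Fusion.mem_autInducedBy] at hα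
      obtain ⟨x, hx, hxq⟩ := hα
      have hx2 : x ∈ ((P ⊔ Subgroup.centralizer (P : Set G) : Subgroup G) : Set G) := hstab hx
      rw [Subgroup.coe_mul_of_left_le_normalizer_right P (Subgroup.centralizer (P : Set G))
        ((Subgroup.le_normalizer : P ≤ _).trans (normalizer_le_normalizer_centralizer P))] at hx2
      obtain ⟨d, hd, c, hcC, hdc⟩ := hx2
      refine (Fusion.mem_autGroup_iff_hom le_rfl).mpr ⟨le_rfl, d, hd, fun q => ?_⟩
      show ((α q : P) : G) = _
      have hcq : c * (q : G) * c⁻¹ = q :=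
        mul_inv_eq_iff_eq_mul.mpr (Subgroup.mem_centralizer_iff.mp hcC q q.2).symm
      rw [hxq q, ← show d * c = x from hdc]
      calc d * c * (q : G) * (d * c)⁻¹ = d * (c * q * c⁻¹) * d⁻¹ := by group
        _ = d * q * d⁻¹ := by rw [hcq]
    · exact absurd hN (Fusion.lt_normalizerIn hDp hlt).not_ge
  have hFle : F ≤ innerFusionSystem D :=
    Fusion.le_of_autGroup_le_cr hDp (blockFusion_isSaturated hM hF) _ key
  refine (nilpotent_iff_inner hM hF).mpr fun Q => Set.Subset.antisymm (hFle Q) ?_
  rintro φ ⟨hQ, g, hg, hφ⟩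
  rw [show φ = conjHom Q g from MonoidHom.ext hφ]
  exact F.conj_mem hQ hg

theorem exists_degree_of_nilpotent (hM : IsPModular p M) (hnil : IsNilpotentBlock p M B) :
    ∃ d : ℕ, ∀ χ : IrrCharacter G, χ ∈ B → blockHeight p B (χ : G → ℂ) = 0 →
      charDegree (χ : G → ℂ) = d :=
  KB64.same_degree_of_nilpotent hM hnil

end Cfsg.Agent.EqDeg71
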