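import Cfsg.Agent.Lib.BlocksDefect.LocalBlock
import Cfsg.Agent.Blocks88.Modular
import Cfsg.Agent.Lib.CharCore.Glauberman
import Cfsg.Agent.EqDeg71.Key

/-!
# From a character of defect zero of `G ⧸ D` to the modular criterion

Pass to `G ⧸ D`, prove the identities of `EqDeg71.eq_top_of_rep` over `ℂ` (Schur, orthogonality)
with `c = |G ⧸ D| / ψ 1`, `c' = c / [G : H]`, and reduce modulo `M`.
-/

set_option linter.unusedSectionVars false

namespace Cfsg.Agent.EqDeg71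

open BlocksCore BlocksDefect
open scoped Matrix

universe u

variable {G : Type u} [Group G] [Fintype G] {p : ℕ} [Fact p.Prime] {M : Ideal AlgInt}

/-- Summing over a group through a surjection. -/
theorem sum_comp_surjective {A : Type*} {Q : Type*} [Group A] [Fintype A] [Group Q] [Fintype Q]
    (f : A →* Q) (hf : Function.Surjective f) (F : Q → ℂ) :
    ∑ a, F (f a) = (Nat.card f.ker : ℂ) * ∑ q, F q := by
  classical
  rw [← Finset.sum_fiberwise' Finset.univ f F, Finset.mul_sum]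
  refine Finset.sum_congr rfl fun q _ => ?_
  rw [Finset.sum_const, nsmul_eq_mul]
  congr 2
  obtain ⟨a, rfl⟩ := hf q
  rw [← Fintype.card_subtype (fun b : A => f b = f a), ← Nat.card_eq_fintype_card]
  refine Nat.card_congr ⟨fun b => ⟨a⁻¹ * b.1, ?_⟩, fun k => ⟨a * k.1, ?_⟩, fun b => ?_, fun k => ?_⟩
  · rw [MonoidHom.mem_ker, map_mul, map_inv, b.2, inv_mul_cancel]
  · rw [map_mul, MonoidHom.mem_ker.1 k.2, mul_one]
  · exact Subtype.ext (mul_inv_cancel_left a b.1)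
  · exact Subtype.ext (inv_mul_cancel_left a k.1)

/-- Schur's lemma for the average over a conjugacy class. -/
theorem sum_conj_apply_mul (χ : IrrCharacter G) (y x : G) :
    ∑ g, (χ : G → ℂ) (g * y * g⁻¹ * x) =
      (Nat.card G : ℂ) / (χ : G → ℂ) 1 * (χ : G → ℂ) y * (χ : G → ℂ) x := by
  classical
  let f : G → ℂ := fun a => ∑ g, if g * y⁻¹ * g⁻¹ = a then 1 else 0
  have hf : IsClassFunction G f := fun a h => by
    refine Fintype.sum_equiv (Equiv.mulLeft h⁻¹) _ _ fun g => ?_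
    simp only [Equiv.coe_mulLeft]
    refine if_congr ?_ rfl rfl
    constructor
    · intro e
      calc h⁻¹ * g * y⁻¹ * (h⁻¹ * g)⁻¹ = h⁻¹ * (g * y⁻¹ * g⁻¹) * h := by group
        _ = a := by rw [e]; group
    · intro e
      rw [← e]
      group
  have key : ∀ F : G → ℂ, ∑ a, f a * F a = ∑ g, F (g * y⁻¹ * g⁻¹) := fun F => by
    simp only [f, Finset.sum_mul, ite_mul, one_mul, zero_mul]
    rw [Finset.sum_comm]
    exact Finset.sum_congr rfl fun g _ => Fintype.sum_ite_eq _ _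
  have hin : (Nat.card G : ℂ) * Cfsg.classInner f χ = (Nat.card G : ℂ) * (χ : G → ℂ) y := by
    have hne : (Nat.card G : ℂ) ≠ 0 := Nat.cast_ne_zero.2 Nat.card_pos.ne'
    simp only [Cfsg.classInner]
    rw [← mul_assoc, mul_inv_cancel₀ hne, one_mul, key fun a => (starRingEnd ℂ) ((χ : G → ℂ) a),
      Finset.sum_congr rfl fun g _ =>
        show (starRingEnd ℂ) ((χ : G → ℂ) (g * y⁻¹ * g⁻¹)) = (χ : G → ℂ) y by
          rw [BlocksCore.irr_class χ, conj_irr, inv_inv],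
      Finset.sum_const, Finset.card_univ, nsmul_eq_mul, Nat.card_eq_fintype_card]
  have h := CharCore.sum_mul_apply_inv_mul hf χ x
  rw [key fun a => (χ : G → ℂ) (a⁻¹ * x), hin] at h
  rw [show (Nat.card G : ℂ) / (χ : G → ℂ) 1 * (χ : G → ℂ) y =
    (Nat.card G : ℂ) * (χ : G → ℂ) y / (χ : G → ℂ) 1 by ring, ← h]
  refine Finset.sum_congr rfl fun g _ => ?_
  congr 1
  group

/-- Orthogonality: an irreducible character reproduces itself under convolution. -/
theorem sum_self_mul_apply (χ : IrrCharacter G) (x : G) :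
    ∑ u, (χ : G → ℂ) u * (χ : G → ℂ) (u⁻¹ * x) =
      (Nat.card G : ℂ) / (χ : G → ℂ) 1 * (χ : G → ℂ) x := by
  have h1 : Cfsg.classInner (χ : G → ℂ) (χ : G → ℂ) = 1 := by
    rw [CharCore.classInner_irr]; simp
  rw [CharCore.sum_mul_apply_inv_mul (irr_class χ) χ x, h1, mul_one]

theorem eq_top_of_char (hM : IsPModular p M) (D H : Subgroup G) [D.Normal] [H.Normal] [Fintype H]
    (hDH : D ≤ H) (ψ : IrrCharacter G) (hD : ∀ d ∈ D, (ψ : G → ℂ) d = (ψ : G → ℂ) 1)
    (hdef : (charDegree (ψ : G → ℂ)).factorization p = D.index.factorization p)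
    (hidx : ¬ p ∣ H.index)
    (hoff : ∀ g, g ∉ H → (ψ : G → ℂ) g = 0)
    (θ : IrrCharacter H) (m : ℕ) (hres : ∀ h : H, (ψ : G → ℂ) h = (m : ℂ) * (θ : H → ℂ) h)
    {n : ℕ} (r : G →* GL (Fin n) (ZMod p)) (hker : r.ker = H)
    (h6 : ∀ (v : Fin n → ZMod p) (U : Subgroup G) [Fintype U],
      (∀ g, g ∈ U ↔ (r g : Matrix (Fin n) (Fin n) (ZMod p)) *ᵥ v = v) → ∀ a b x : G,
        ∑ s : U, ∑ t : U,
            (ψ : G → ℂ) (((s : G) * a * (s : G)⁻¹) * ((t : G) * b * (t : G)⁻¹) * x) =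
          ∑ s : U, ∑ t : U,
            (ψ : G → ℂ) (((t : G) * b * (t : G)⁻¹) * ((s : G) * a * (s : G)⁻¹) * x)) :
    H = ⊤ := by
  classical
  have := isPrime hM
  haveI : Finite G := Finite.of_fintype G
  let := Fintype.ofFinite (G ⧸ D)
  obtain ⟨f, -, hf, hψf⟩ :=
    CharCore.IsCharacter.exists_quotient (CharCore.irr_isCharacter ψ) D hD
  let φ : IrrCharacter (G ⧸ D) := ⟨f, hf ψ.2⟩
  have hψ : ∀ g, (ψ : G → ℂ) g = (φ : G ⧸ D → ℂ) (QuotientGroup.mk' D g) := hψf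
  set π := QuotientGroup.mk' D with hπdef
  have hπ : Function.Surjective π := QuotientGroup.mk'_surjective D
  set H' := H.map π with hH'
  haveI : H'.Normal := Subgroup.Normal.map inferInstance π hπ
  let := Fintype.ofFinite H'
  have hmem : ∀ g, π g ∈ H' ↔ g ∈ H := fun g => by
    rw [hH', ← Subgroup.mem_comap, Subgroup.comap_map_eq, QuotientGroup.ker_mk',
      sup_eq_left.2 hDH]
  -- the numbers
  set d := charDegree (ψ : G → ℂ) with hd
  have hψ1 : (ψ : G → ℂ) 1 = d := irr_one_eq ψ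
  have hφ1 : (φ : G ⧸ D → ℂ) 1 = d := by rw [← hψ1, hψ, map_one]
  have hdeg : charDegree (φ : G ⧸ D → ℂ) = d := by
    have h := (irr_one_eq φ).symm.trans hφ1
    exact_mod_cast h
  obtain ⟨cN, hcN⟩ : d ∣ Nat.card (G ⧸ D) := hdeg ▸ charDegree_dvd_card φ
  have hd0 : d ≠ 0 := (BlocksCore.charDegree_pos ψ).ne'
  have hdC : (d : ℂ) ≠ 0 := Nat.cast_ne_zero.2 hd0
  have hcN0 : cN ≠ 0 := fun h => by
    rw [h, mul_zero] at hcN; exact Nat.card_pos.ne' hcN
  have hcp : ¬ p ∣ cN := fun hc => by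
    have h := congrArg (fun z => z.factorization p) hcN
    simp only [Nat.factorization_mul hd0 hcN0, Finsupp.add_apply, ← Subgroup.index_eq_card,
      ← hdef] at h
    have := (Fact.out : p.Prime).factorization_pos_of_dvd hcN0 hc
    omega
  have hc : (Nat.card (G ⧸ D) : ℂ) / (φ : G ⧸ D → ℂ) 1 = cN := by
    rw [hφ1, hcN, Nat.cast_mul, mul_div_cancel_left₀ _ hdC]
  -- the identities over `ℂ`
  have C2 : ∀ y x : G ⧸ D, ∑ g, (φ : G ⧸ D → ℂ) (g * y * g⁻¹ * x) =
      cN * (φ : G ⧸ D → ℂ) y * (φ : G ⧸ D → ℂ) x := fun y x => by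
    rw [sum_conj_apply_mul, hc]
  have C3 : ∀ x : G ⧸ D, ∑ u, (φ : G ⧸ D → ℂ) u * (φ : G ⧸ D → ℂ) (u⁻¹ * x) =
      cN * (φ : G ⧸ D → ℂ) x := fun x => by
    rw [sum_self_mul_apply, hc]
  have Coff : ∀ x : G ⧸ D, x ∉ H' → (φ : G ⧸ D → ℂ) x = 0 := fun x hx => by
    obtain ⟨g, rfl⟩ := hπ x
    rw [← hψ]
    exact hoff g fun h => hx ((hmem g).2 h)
  have hHsum : ∀ F : G ⧸ D → ℂ, ∑ h : H, F (π h) = (Nat.card D : ℂ) * ∑ h : H', F h := fun F => by
    let q : H →* H' := π.subgroupMap H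
    have hq : Function.Surjective q := π.subgroupMap_surjective H
    have hk : Nat.card q.ker = Nat.card D := by
      have e : q.ker = D.subgroupOf H := by
        ext x
        rw [MonoidHom.mem_ker, Subgroup.mem_subgroupOf, ← Subtype.coe_inj]
        exact QuotientGroup.eq_one_iff _
      rw [e, Nat.card_congr (Subgroup.subgroupOfEquivOfLe hDH).toEquiv]
    rw [← hk, ← sum_comp_surjective q hq fun h : H' => F h]
    rfl
  have C4 : ∀ y ∈ H', ∀ x : G ⧸ D,
      (H.index : ℂ) * ∑ h : H', (φ : G ⧸ D → ℂ) ((h : G ⧸ D) * y * (h : G ⧸ D)⁻¹ * x) =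
        cN * (φ : G ⧸ D → ℂ) y * (φ : G ⧸ D → ℂ) x := by
    intro y hy x
    by_cases hx : x ∈ H'
    swap
    · have h0 : ∀ h : H', (φ : G ⧸ D → ℂ) ((h : G ⧸ D) * y * (h : G ⧸ D)⁻¹ * x) = 0 := fun h =>
        Coff _ fun hh => hx (by
          have hc := H'.mul_mem (H'.mul_mem (h : H').2 hy) (H'.inv_mem (h : H').2)
          simpa [mul_assoc] using H'.mul_mem (H'.inv_mem hc) hh)
      rw [Coff x hx, Finset.sum_eq_zero fun h _ => h0 h, mul_zero, mul_zero]
    obtain ⟨a, ha, rfl⟩ := hy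
    obtain ⟨b, hb, rfl⟩ := hx
    have hθ := sum_conj_apply_mul θ ⟨a, ha⟩ ⟨b, hb⟩
    have e1 : ∑ h : H, (φ : G ⧸ D → ℂ) (π h * π a * (π h)⁻¹ * π b) =
        (m : ℂ) * ((Nat.card H : ℂ) / (θ : H → ℂ) 1 * (θ : H → ℂ) ⟨a, ha⟩ * (θ : H → ℂ) ⟨b, hb⟩) := by
      rw [← hθ, Finset.mul_sum]
      refine Finset.sum_congr rfl fun h _ => ?_
      rw [← map_inv, ← map_mul, ← map_mul, ← map_mul, ← hψ, ← hres]
      rfl
    rw [hHsum fun z => (φ : G ⧸ D → ℂ) (z * π a * z⁻¹ * π b)] at e1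
    have hD0 : (Nat.card D : ℂ) ≠ 0 := Nat.cast_ne_zero.2 Nat.card_pos.ne'
    have hcard : (H.index : ℂ) * Nat.card H = Nat.card D * (d * cN) := by
      rw [← Nat.cast_mul, ← Nat.cast_mul, ← Nat.cast_mul, ← hcN, Subgroup.index_mul_card,
        ← Subgroup.index_eq_card, Subgroup.card_mul_index]
    have hθ1 : (m : ℂ) * (θ : H → ℂ) 1 = d := by
      rw [← hψ1, ← hres 1]; rfl
    have hθ10 : (θ : H → ℂ) 1 ≠ 0 := fun h => hdC (by rw [← hθ1, h, mul_zero])
    rw [← hψ, ← hψ, ← mul_right_inj' hD0]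
    rw [show (ψ : G → ℂ) a = (m : ℂ) * (θ : H → ℂ) ⟨a, ha⟩ from hres ⟨a, ha⟩,
      show (ψ : G → ℂ) b = (m : ℂ) * (θ : H → ℂ) ⟨b, hb⟩ from hres ⟨b, hb⟩, mul_left_comm, e1]
    field_simp
    linear_combination (m : ℂ) * (θ : H → ℂ) ⟨a, ha⟩ * (θ : H → ℂ) ⟨b, hb⟩ * hcard -
      (Nat.card D : ℂ) * cN * (m : ℂ) * (θ : H → ℂ) ⟨a, ha⟩ * (θ : H → ℂ) ⟨b, hb⟩ * hθ1
  -- reduction modulo `M`
  letI : Field (localRing M ⧸ localIdeal M) := Ideal.Quotient.field (localIdeal M)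
  haveI : CharP (localRing M ⧸ localIdeal M) p := BlocksCore.charP_residue hM
  let k := AlgebraicClosure (localRing M ⧸ localIdeal M)
  haveI : CharP k p := charP_of_injective_algebraMap
    (algebraMap (localRing M ⧸ localIdeal M) k).injective p
  let Φ : localRing M →+* k :=
    (algebraMap (localRing M ⧸ localIdeal M) k).comp (Ideal.Quotient.mk (localIdeal M))
  have hΦ0 : ∀ z : localRing M, Φ z = 0 ↔ MemLocalIdeal M (z : ℂ) := fun z => by
    show algebraMap _ k (Ideal.Quotient.mk (localIdeal M) z) = 0 ↔ _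
    rw [map_eq_zero_iff _ (algebraMap (localRing M ⧸ localIdeal M) k).injective,
      Ideal.Quotient.eq_zero_iff_mem, mem_localIdeal_iff]
  let v : G ⧸ D → localRing M := fun x =>
    ⟨(φ : G ⧸ D → ℂ) x, memLocalRing_of_isIntegral (isIntegral_irr φ x)⟩
  let τ : G ⧸ D → k := fun x => Φ (v x)
  have hnat : ∀ z : ℕ, ¬ p ∣ z → (z : k) ≠ 0 := fun z hz h =>
    hz ((CharP.cast_eq_zero_iff k p z).1 h)
  have T2 : ∀ y x, ∑ g, τ (g * y * g⁻¹ * x) = (cN : k) * τ y * τ x := fun y x => by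
    simp only [τ]
    rw [← map_sum, ← map_natCast Φ, ← map_mul, ← map_mul]
    congr 1
    apply Subtype.ext
    simpa [v] using C2 y x
  have T3 : ∀ x, ∑ u, τ u * τ (u⁻¹ * x) = (cN : k) * τ x := fun x => by
    simp only [τ, ← map_mul]
    rw [← map_sum, ← map_natCast Φ, ← map_mul]
    congr 1
    apply Subtype.ext
    simpa [v] using C3 x
  have T4 : ∀ y ∈ H', ∀ x, ∑ h : H', τ ((h : G ⧸ D) * y * (h : G ⧸ D)⁻¹ * x) =
      (cN : k) / (H.index : k) * τ y * τ x := fun y hy x => by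
    have h : (H.index : k) * ∑ h : H', τ ((h : G ⧸ D) * y * (h : G ⧸ D)⁻¹ * x) =
        (cN : k) * τ y * τ x := by
      simp only [τ]
      rw [← map_sum, ← map_natCast Φ, ← map_natCast Φ, ← map_mul, ← map_mul, ← map_mul]
      congr 1
      apply Subtype.ext
      simpa [v] using C4 y hy x
    have he := hnat _ hidx
    refine mul_left_cancel₀ he (h.trans ?_)
    rw [mul_assoc (cN : k) (τ y), mul_assoc ((cN : k) / _) (τ y), ← mul_assoc (H.index : k),
      mul_div_cancel₀ _ he]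
  have hτ : τ ≠ 0 := fun h0 => by
    have hall : ∀ x, MemLocalIdeal M ((φ : G ⧸ D → ℂ) x) := fun x =>
      (hΦ0 (v x)).1 (congrFun h0 x)
    let := Fintype.ofFinite (ConjClasses (G ⧸ D))
    have h1 := C3 1
    simp only [mul_one] at h1
    rw [BlocksDefect.sum_eq_sum_classes (irr_class φ) (fun a b => by
      show (φ : G ⧸ D → ℂ) (b * a * b⁻¹)⁻¹ = _
      rw [show (b * a * b⁻¹)⁻¹ = b * a⁻¹ * b⁻¹ by group, irr_class φ]), hφ1] at h1
    have hsum : (cN : ℂ) = ∑ C : ConjClasses (G ⧸ D),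
        centralChar (φ : G ⧸ D → ℂ) (Quotient.out C) * (φ : G ⧸ D → ℂ) (Quotient.out C)⁻¹ := by
      rw [← mul_div_cancel_right₀ (cN : ℂ) hdC, ← h1, Finset.sum_div]
      refine Finset.sum_congr rfl fun C _ => ?_
      simp only [centralChar, hφ1]
      ring
    refine hcp ((memLocalIdeal_natCast_iff hM cN).1 ?_)
    rw [hsum]
    exact memLocalIdeal_sum fun C _ =>
      memLocalIdeal_mul_left (centralChar_memLocalRing φ _) (hall _)
  -- the criterion
  let r' : G ⧸ D →* GL (Fin n) (ZMod p) := QuotientGroup.lift D r (hker ▸ hDH)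
  have hker' : r'.ker = H' := by
    ext x
    obtain ⟨g, rfl⟩ := hπ x
    rw [MonoidHom.mem_ker, hmem, ← hker, MonoidHom.mem_ker]
    exact Iff.rfl
  have key : H' = ⊤ := eq_top_of_tau H' τ (cN : k) ((cN : k) / (H.index : k))
    (hnat _ hcp) (div_ne_zero (hnat _ hcp) (hnat _ hidx)) hτ
    (fun g x => by
      simp only [τ]
      congr 1
      exact Subtype.ext (irr_class φ x g))
    (fun g hg => (hΦ0 (v g)).2 (by rw [show (v g : ℂ) = 0 from Coff g hg]; exact memLocalIdeal_zero))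
    T2 T3 T4 r' hker' (fun w U _ hU a b x => by
      obtain ⟨a, rfl⟩ := hπ a
      obtain ⟨b, rfl⟩ := hπ b
      obtain ⟨x, rfl⟩ := hπ x
      let U₀ := U.comap π
      let := Fintype.ofFinite U₀
      have h := h6 w U₀ (fun g => hU (π g)) a b x
      let q : U₀ →* U := π.subgroupComap U
      have hq : Function.Surjective q := π.subgroupComap_surjective_of_surjective U hπ
      have hsum : ∀ F : G ⧸ D → G ⧸ D → ℂ, ∑ s : U₀, ∑ t : U₀, F (π s) (π t) =
          (Nat.card q.ker : ℂ) * ((Nat.card q.ker : ℂ) * ∑ s : U, ∑ t : U, F s t) := fun F => by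
        rw [show (Nat.card q.ker : ℂ) * ∑ s : U, ∑ t : U, F s t =
            ∑ s : U, (Nat.card q.ker : ℂ) * ∑ t : U, F s t from Finset.mul_sum _ _ _,
          ← sum_comp_surjective q hq fun s : U => (Nat.card q.ker : ℂ) * ∑ t : U, F s t]
        refine Finset.sum_congr rfl fun s _ => ?_
        rw [← sum_comp_surjective q hq fun t : U => F (q s) t]
        rfl
      simp only [hψ, map_mul, map_inv] at h
      rw [hsum (fun s t => (φ : G ⧸ D → ℂ) (s * π a * s⁻¹ * (t * π b * t⁻¹) * π x)),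
        hsum (fun s t => (φ : G ⧸ D → ℂ) (t * π b * t⁻¹ * (s * π a * s⁻¹) * π x))] at h
      have hk : (Nat.card q.ker : ℂ) ≠ 0 := Nat.cast_ne_zero.2 Nat.card_pos.ne'
      have h' := mul_left_cancel₀ hk (mul_left_cancel₀ hk h)
      simp only [τ, ← map_sum]
      congr 1
      apply Subtype.ext
      simpa [v] using h')
  refine eq_top_iff.2 fun g _ => (hmem g).1 ?_
  rw [key]
  exact Subgroup.mem_top _

end Cfsg.Agent.EqDeg71
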