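import Cfsg.Agent.Lib.BlocksDefect.NormalDefect
import Cfsg.Agent.Lib.CharClifford.Clifford

/-!
# Small lemmas for blocks with normal defect group and equal height-zero degrees
-/

set_option linter.unusedSectionVars false

namespace Cfsg.Agent.EqDeg71

open BlocksCore BlocksDefect

universe u

variable {G : Type u} [Group G] [Fintype G] {p : ℕ} [Fact p.Prime] {M : Ideal AlgInt}

/-- Clifford for an invariant constituent. -/
theorem exists_restrict_eq_mul (H : Subgroup G) [H.Normal] [Fintype H] (θ : IrrCharacter H)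
    (hfix : ∀ (g : G) (h : H),
      (θ : H → ℂ) ⟨g * h * g⁻¹, Subgroup.Normal.conj_mem inferInstance _ h.2 g⟩ = (θ : H → ℂ) h)
    (χ : IrrCharacter G) (h : classInner (fun x : H => (χ : G → ℂ) x) (θ : H → ℂ) ≠ 0) :
    ∃ m : ℕ, 0 < m ∧ ∀ x : H, (χ : G → ℂ) x = (m : ℂ) * (θ : H → ℂ) x := by
  classical
  obtain ⟨θ', e, hθ', he, hcl, hres⟩ := CharClifford.clifford_restrict H χ.2
  obtain ⟨x, hx⟩ := CharClifford.exists_conjFun_eq_of_constituents H χ.2 θ.2 hθ' h
    (by rw [hcl]; exact Nat.cast_ne_zero.mpr he.ne')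
  have hθθ : ∀ y : G, CharClifford.conjFun H y (θ : H → ℂ) = θ := fun y => funext fun n => hfix y n
  rw [hθθ] at hx
  subst hx
  have horb : CharClifford.conjOrbit H (θ : H → ℂ) = {(θ : H → ℂ)} := by
    ext ψ
    rw [CharClifford.mem_conjOrbit, Finset.mem_singleton]
    exact ⟨fun ⟨y, hy⟩ => by rw [← hy, hθθ], fun h => ⟨1, by rw [hθθ, h]⟩⟩
  refine ⟨e, he, fun x => ?_⟩
  have h1 := congrFun hres x
  rw [horb, Finset.sum_singleton] at h1
  simpa using h1

/-- A normal subgroup in the kernel of a constituent is in the kernel. -/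
theorem apply_eq_one_of_constituent (H N : Subgroup G) [H.Normal] [N.Normal] [Fintype H]
    (hNH : N ≤ H) (θ : IrrCharacter H)
    (hk : ∀ x : H, (x : G) ∈ N → (θ : H → ℂ) x = (θ : H → ℂ) 1)
    (χ : IrrCharacter G) (h : classInner (fun x : H => (χ : G → ℂ) x) (θ : H → ℂ) ≠ 0) :
    ∀ n ∈ N, (χ : G → ℂ) n = (χ : G → ℂ) 1 := by
  classical
  obtain ⟨θ', e, hθ', he, hcl, hres⟩ := CharClifford.clifford_restrict H χ.2
  obtain ⟨x, hx⟩ := CharClifford.exists_conjFun_eq_of_constituents H χ.2 θ.2 hθ' h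
    (by rw [hcl]; exact Nat.cast_ne_zero.mpr he.ne')
  intro n hn
  have h1 := congrFun hres ⟨n, hNH hn⟩
  have h2 := congrFun hres 1
  simp only [Pi.smul_apply, Finset.sum_apply, smul_eq_mul, OneMemClass.coe_one] at h1 h2
  rw [h1, h2]
  congr 1
  refine Finset.sum_congr rfl fun ψ hψ => ?_
  obtain ⟨y, rfl⟩ := (CharClifford.mem_conjOrbit H).mp hψ
  rw [hx, CharClifford.conjFun_conjFun, CharClifford.conjFun_apply, CharClifford.conjFun_apply,
    hk _ (Subgroup.Normal.conj_mem inferInstance n hn _)]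
  exact congrArg _ (Subtype.ext (by simp))

/-- A linear character is multiplicative. -/
theorem linear_commutator {D : Subgroup G} [Fintype D] (lam : IrrCharacter D)
    (h1 : (lam : D → ℂ) 1 = 1) (a b : D) : (lam : D → ℂ) (a * b * a⁻¹ * b⁻¹) = 1 := by
  obtain ⟨φ, hφ⟩ := CharCore.IsCharacter.exists_hom_of_degree_one (CharCore.irr_isCharacter lam) h1
  rw [hφ]
  simp [mul_comm, mul_left_comm]

/-- A character of `B` with the derived group of the normal defect group in its kernel has height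
zero. -/
theorem blockHeight_eq_zero_of_kernel (hM : IsPModular p M) {B : Set (IrrCharacter G)}
    (hB : IsPBlock M B) {D : Subgroup G} [D.Normal] (hD : IsDefectGroup p M B D)
    (N : Subgroup G) [N.Normal]
    (hcomm : ∀ a ∈ D, ∀ b ∈ D, a * b * a⁻¹ * b⁻¹ ∈ N) (hND : N ≤ D)
    {χ : IrrCharacter G} (hk : ∀ n ∈ N, (χ : G → ℂ) n = (χ : G → ℂ) 1) :
    blockHeight p B (χ : G → ℂ) = 0 := by
  classical
  have hsum := blockDefect_add_index hM hB hD
  unfold blockDefect at hsum
  obtain ⟨φ, hφ⟩ := exists_inflate_eq N χ hk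
  haveI : (D.map (QuotientGroup.mk' N)).Normal :=
    Subgroup.Normal.map inferInstance _ (QuotientGroup.mk'_surjective N)
  have h1 := CharDeep.Deg.degree_dvd_index φ (D.map (QuotientGroup.mk' N)) (by
    rintro _ ⟨a, ha, rfl⟩ _ ⟨b, hb, rfl⟩
    rw [← map_mul, ← map_mul]
    refine QuotientGroup.eq.mpr ?_
    have := hcomm b⁻¹ (D.inv_mem hb) a⁻¹ (D.inv_mem ha)
    simpa [mul_assoc] using this)
  have hdeg : charDegree (χ : G → ℂ) = charDegree (φ : G ⧸ N → ℂ) := by
    rw [← hφ]
    rfl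
  have hidx : (D.map (QuotientGroup.mk' N)).index = D.index := by
    refine Subgroup.index_map_eq D (QuotientGroup.mk'_surjective N) ?_
    rw [QuotientGroup.ker_mk']
    exact hND
  rw [← hdeg, hidx] at h1
  have h2 := (Nat.factorization_le_iff_dvd (charDegree_pos χ).ne'
    Subgroup.FiniteIndex.index_ne_zero).mpr h1 p
  unfold blockHeight
  omega

end Cfsg.Agent.EqDeg71
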