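import Cfsg.Agent.Lib.BlocksDefect.LocalBlock
import Cfsg.Agent.Lib.BlocksDefect.Normal
import Cfsg.Agent.BC87.CliffordCorr
import Cfsg.Agent.BC87.Basic
import Cfsg.Agent.Lib.CharCore.Linear
import Cfsg.Agent.CharDeep.Ext.Clifford

/-!
# Twisting by an invariant linear character of a normal `p`-subgroup
-/

set_option linter.unusedSectionVars false

open scoped ComplexConjugate

namespace Cfsg.Agent.EqDeg71

open BlocksCore BlocksDefect

universe u

variable {T : Type u} [Group T] [Fintype T] {p : ℕ} [Fact p.Prime] {M : Ideal AlgInt}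

private theorem pp_coe_subgroup (H : Subgroup T) (x : H) :
    pp p (x : T) = ((pp p x : H) : T) := by
  obtain ⟨y, hxy, hc, ⟨k, hk⟩, hy⟩ := pp_spec (p := p) x
  exact pp_eq ⟨(y : T), congrArg Subtype.val hxy, hc.map H.subtype,
    ⟨k, by rwa [Subgroup.orderOf_coe]⟩, by rwa [Subgroup.orderOf_coe]⟩

/-- A member of full `p`-part in `G ⧸ P` is supported on the sections of `P`. -/
private theorem isPCore_of_kernel {G : Type u} [Group G] [Fintype G] {P : Subgroup G} [P.Normal]
    (hM : IsPModular p M) (θ : IrrCharacter G)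
    (hk : ∀ x ∈ P, (θ : G → ℂ) x = (θ : G → ℂ) 1)
    (hge : P.index.factorization p ≤ (charDegree (θ : G → ℂ)).factorization p) :
    IsPCore p P θ := by
  classical
  have := Fintype.ofFinite (G ⧸ P)
  obtain ⟨φ, hφ⟩ := exists_inflate_eq P θ hk
  have hval : ∀ g : G, (θ : G → ℂ) g = (φ : G ⧸ P → ℂ) (QuotientGroup.mk g) := fun g => by
    rw [← hφ]; rfl
  have hdeg : charDegree (θ : G → ℂ) = charDegree (φ : G ⧸ P → ℂ) := by
    simp only [charDegree, hval, QuotientGroup.mk_one]
  have hdvd := charDegree_dvd_card φ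
  rw [← hdeg, show Nat.card (G ⧸ P) = P.index from rfl] at hdvd
  have hφ0 : ¬ p ∣ Nat.card (G ⧸ P) / charDegree (φ : G ⧸ P → ℂ) := by
    rw [← hdeg, show Nat.card (G ⧸ P) = P.index from rfl]
    intro hc
    have hne : P.index / charDegree (θ : G → ℂ) ≠ 0 :=
      (Nat.div_pos (Nat.le_of_dvd (Nat.pos_of_ne_zero Subgroup.FiniteIndex.index_ne_zero) hdvd)
        (charDegree_pos θ)).ne'
    have h1 := Nat.Prime.factorization_pos_of_dvd Fact.out hne hc
    rw [Nat.factorization_div hdvd, Finsupp.tsub_apply] at h1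
    omega
  refine ⟨fun x y hx _ _ => ?_, fun g hg => ?_⟩
  · rw [hval, hval, QuotientGroup.mk_mul, (QuotientGroup.eq_one_iff x).mpr hx, one_mul]
  · rw [hval]
    refine eq_zero_of_blockOf_eq_singleton hM φ (blockOf_eq_singleton_of_not_dvd hM φ hφ0) ?_
    obtain ⟨y, hxy, hc, ⟨k, hk⟩, hy⟩ := pp_spec (p := p) g
    set π := QuotientGroup.mk' P with hπ
    obtain ⟨i, -, hi⟩ := (Nat.dvd_prime_pow Fact.out).mp (hk ▸ orderOf_map_dvd π (pp p g))
    have hi0 : i ≠ 0 := by
      rintro rfl
      rw [pow_zero, orderOf_eq_one_iff, hπ, QuotientGroup.mk'_apply, QuotientGroup.eq_one_iff] at hi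
      exact hg hi
    have hcop : Nat.Coprime (orderOf (π (pp p g))) (orderOf (π y)) := by
      rw [hi]
      exact Nat.Coprime.pow_left i ((Fact.out : p.Prime).coprime_iff_not_dvd.mpr
        fun h => hy (h.trans (orderOf_map_dvd π y)))
    show p ∣ orderOf (π g)
    conv_rhs => rw [← hxy, map_mul, (hc.map π).orderOf_mul_eq_mul_orderOf_of_coprime hcop, hi]
    exact Dvd.dvd.mul_right (dvd_pow_self p hi0) _

/-- The twist by an invariant linear character is irreducible. -/
private theorem isIrr_tens {G : Type u} [Group G] [Fintype G] {P : Subgroup G}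
    (hP : IsPGroup p P) {θ : IrrCharacter G} (hθ : IsPCore p P θ) {l : P → ℂ}
    (hl : IsCharacter P l) (habs : ∀ x, l x * conj (l x) = 1)
    (hinv : ∀ g x : G, extendByZero P l (g * x * g⁻¹) = extendByZero P l x) (hl1 : l 1 = 1) :
    IsIrrCharacter G (tens p P l (θ : G → ℂ)) := by
  have hcl : IsClassFunction G (tens p P l (θ : G → ℂ)) := fun g h => by
    rw [tens, tens, pp_conj, hinv, irr_class θ g h]
  have hgen : IsGeneralizedCharacter G (tens p P l (θ : G → ℂ)) := by
    refine CharInd.isGeneralizedCharacter_of_elementary hcl fun E q hq hel => ?_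
    have := Fintype.ofFinite E
    have := CharInd.isNilpotent_of_isElementary hq hel
    rw [CharCore.isGeneralizedCharacter_iff]
    refine ⟨fun a b => hcl a b, fun α => ?_⟩
    obtain ⟨k, hk⟩ := exists_classInner_tens hP hθ hl E (CharCore.irr_isCharacter α)
    exact ⟨k, by rw [hk, Int.cast_natCast]⟩
  have h1 : pp p (1 : G) = 1 := pp_regular (by
    rw [orderOf_one]; exact (Fact.out : p.Prime).not_dvd_one)
  refine CharCore.IsGeneralizedCharacter.isIrr_of_norm_one hgen ?_ ?_
  · conv_rhs => rw [← CharCore.classInner_irr_self θ]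
    unfold classInner
    refine congrArg _ (Finset.sum_congr rfl fun g _ => ?_)
    by_cases hg : pp p g ∈ P
    · rw [tens, CharInd.extendByZero_mem _ hg, map_mul]
      calc l ⟨pp p g, hg⟩ * (θ : G → ℂ) g * (conj (l ⟨pp p g, hg⟩) * conj ((θ : G → ℂ) g))
          = (l ⟨pp p g, hg⟩ * conj (l ⟨pp p g, hg⟩)) *
            ((θ : G → ℂ) g * conj ((θ : G → ℂ) g)) := by ring
        _ = _ := by rw [habs, one_mul]
    · rw [tens_eq_zero hg, hθ.eq_zero g hg]
  · rw [tens, h1, CharInd.extendByZero_mem _ P.one_mem]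
    erw [hl1]
    rw [one_mul, irr_one_eq, Complex.natCast_re]
    exact_mod_cast charDegree_pos θ

theorem index_mul_degree (hM : IsPModular p M) (D H U : Subgroup T) [D.Normal] [H.Normal]
    [Fintype H] [Fintype U] (hP : IsPGroup p D) (hDH : D ≤ H) (hidx : ¬ p ∣ H.index)
    (θ : IrrCharacter H) (hθk : ∀ h : H, (h : T) ∈ D → (θ : H → ℂ) h = (θ : H → ℂ) 1)
    (hθdeg : (charDegree (θ : H → ℂ)).factorization p = (D.subgroupOf H).index.factorization p)
    (hθ : IsPCore p (D.subgroupOf H) θ)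
    (hfix : ∀ (g : T) (h : H),
      (θ : H → ℂ) ⟨g * h * g⁻¹, Subgroup.Normal.conj_mem inferInstance _ h.2 g⟩ = (θ : H → ℂ) h)
    (lam : IrrCharacter D) (h1 : (lam : D → ℂ) 1 = 1) (hHU : H ≤ U)
    (hU : ∀ g, g ∈ U ↔ ∀ d : D,
      (lam : D → ℂ) ⟨g * d * g⁻¹, Subgroup.Normal.conj_mem inferInstance _ d.2 g⟩ = (lam : D → ℂ) d)
    (m₀ : ℕ)
    (hall : ∀ ψ : IrrCharacter T, classInner (fun h : H => (ψ : T → ℂ) h)
        (tens p (D.subgroupOf H) (fun d => (lam : D → ℂ) ⟨((d : H) : T), d.2⟩) (θ : H → ℂ)) ≠ 0 →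
      charDegree (ψ : T → ℂ) = m₀)
    (φ : IrrCharacter U)
    (hφ : classInner (fun h : H => (φ : U → ℂ) ⟨(h : T), hHU h.2⟩) (θ : H → ℂ) ≠ 0) :
    U.index * charDegree (φ : U → ℂ) = m₀ := by
  classical
  -- `lam` is a homomorphism
  obtain ⟨l, hl⟩ := CharCore.IsCharacter.exists_hom_of_degree_one
    (CharCore.irr_isCharacter lam) h1
  have habs : ∀ d : D, (lam : D → ℂ) d * conj ((lam : D → ℂ) d) = 1 := fun d => by
    rw [hl, Complex.mul_conj', CharCore.norm_hom_apply]; simp
  -- restriction of `φ` to `H`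
  set i := Subgroup.subgroupOfEquivOfLe hHU
  have := Fintype.ofFinite (H.subgroupOf U)
  have hθ' : IsIrrCharacter (H.subgroupOf U) (fun x => (θ : H → ℂ) (i x)) :=
    CharCore.isIrrCharacter_comp_surjective θ.2 i.toMonoidHom i.surjective
  have hinv' : CharDeep.Ext.Inv (H.subgroupOf U) (fun x => (θ : H → ℂ) (i x)) :=
    fun g n => hfix (g : T) (i n)
  have hcon : classInner (fun n : H.subgroupOf U => (φ : U → ℂ) n) (fun x => (θ : H → ℂ) (i x)) =
      classInner (fun h : H => (φ : U → ℂ) ⟨(h : T), hHU h.2⟩) (θ : H → ℂ) := by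
    rw [classInner, classInner, Nat.card_congr i.toEquiv]
    congr 1
    exact Fintype.sum_equiv i.toEquiv _ _ fun x => rfl
  obtain ⟨f, hf⟩ := CharCore.IsCharacter.exists_classInner_irr_eq_natCast (G := H)
    (CharCore.isCharacter_comp (CharCore.irr_isCharacter φ) (Subgroup.inclusion hHU)) θ
  have hf : classInner (fun h : H => (φ : U → ℂ) ⟨(h : T), hHU h.2⟩) (θ : H → ℂ) = (f : ℂ) := hf
  have hres := CharDeep.Ext.restrict_eq_smul _ hinv' hθ' φ.2 (by rw [hcon]; exact hφ)
  rw [hcon, hf] at hres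
  have hfun : ∀ h : H, (φ : U → ℂ) ⟨(h : T), hHU h.2⟩ = (f : ℂ) * (θ : H → ℂ) h := fun h => by
    have := congrFun hres (i.symm h)
    simp only [Pi.smul_apply, smul_eq_mul] at this
    rw [MulEquiv.apply_symm_apply] at this
    exact this
  have hf0 : f ≠ 0 := fun h0 => hφ (by rw [hf, h0, Nat.cast_zero])
  -- the degree of `φ`
  have hφdeg : charDegree (φ : U → ℂ) = f * charDegree (θ : H → ℂ) := by
    have h2 := hfun 1
    rw [irr_one_eq θ] at h2
    refine BC87.charDegree_eq ?_
    push_cast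
    exact h2
  set DU := D.subgroupOf U
  have hDUp : IsPGroup p DU := hP.of_equiv (Subgroup.subgroupOfEquivOfLe (hDH.trans hHU)).symm
  have hDHp : IsPGroup p (D.subgroupOf H) := hP.of_equiv (Subgroup.subgroupOfEquivOfLe hDH).symm
  have hφk : ∀ x ∈ DU, (φ : U → ℂ) x = (φ : U → ℂ) 1 := by
    intro x hx
    have h2 := hfun ⟨(x : T), hDH hx⟩
    have h3 := hfun 1
    rw [hθk ⟨(x : T), hDH hx⟩ hx] at h2
    exact h2.trans h3.symm
  have hrel : (DU.index).factorization p = (D.subgroupOf H).index.factorization p := by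
    have e := Subgroup.relIndex_mul_relIndex D H U hDH hHU
    have hne : ¬ p ∣ H.relIndex U := fun h => hidx (h.trans (Subgroup.relIndex_dvd_index_of_le hHU))
    have hn0 : ∀ A B : Subgroup T, A.relIndex B ≠ 0 := fun A B => Subgroup.FiniteIndex.index_ne_zero
    show (D.relIndex U).factorization p = (D.relIndex H).factorization p
    rw [← e, Nat.factorization_mul (hn0 _ _) (hn0 _ _), Finsupp.add_apply,
      Nat.factorization_eq_zero_of_not_dvd hne, add_zero]
  have hcoreU : IsPCore p DU φ := by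
    refine isPCore_of_kernel hM φ hφk ?_
    rw [hrel, ← hθdeg, hφdeg]
    exact (Nat.factorization_le_iff_dvd (charDegree_pos θ).ne'
      (Nat.mul_ne_zero hf0 (charDegree_pos θ).ne')).mpr (Dvd.intro_left _ rfl) p
  -- the twists
  let jU : DU →* D := { toFun := fun d => ⟨((d : U) : T), d.2⟩, map_one' := rfl
                        map_mul' := fun _ _ => rfl }
  let jH : D.subgroupOf H →* D := { toFun := fun d => ⟨((d : H) : T), d.2⟩, map_one' := rfl
                                    map_mul' := fun _ _ => rfl }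
  set lU : DU → ℂ := fun d => (lam : D → ℂ) (jU d) with hlU
  set lH : D.subgroupOf H → ℂ := fun d => (lam : D → ℂ) ⟨((d : H) : T), d.2⟩ with hlH
  have hextU : ∀ x : U, extendByZero DU lU x = extendByZero D (lam : D → ℂ) (x : T) := fun x => by
    by_cases hx : (x : T) ∈ D
    · rw [CharInd.extendByZero_mem _ (show x ∈ DU from hx), CharInd.extendByZero_mem _ hx]; rfl
    · rw [CharInd.extendByZero_notMem _ (show x ∉ DU from hx), CharInd.extendByZero_notMem _ hx]
  have hextH : ∀ x : H, extendByZero (D.subgroupOf H) lH x =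
      extendByZero D (lam : D → ℂ) (x : T) := fun x => by
    by_cases hx : (x : T) ∈ D
    · rw [CharInd.extendByZero_mem _ (show x ∈ D.subgroupOf H from hx),
        CharInd.extendByZero_mem _ hx]
    · rw [CharInd.extendByZero_notMem _ (show x ∉ D.subgroupOf H from hx),
        CharInd.extendByZero_notMem _ hx]
  have hconj : ∀ g ∈ U, ∀ x : T, extendByZero D (lam : D → ℂ) (g * x * g⁻¹) =
      extendByZero D (lam : D → ℂ) x := fun g hg x => by
    by_cases hx : x ∈ D
    · rw [CharInd.extendByZero_mem _ hx,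
        CharInd.extendByZero_mem _ (Subgroup.Normal.conj_mem inferInstance x hx g)]
      exact (hU g).mp hg ⟨x, hx⟩
    · rw [CharInd.extendByZero_notMem _ hx, CharInd.extendByZero_notMem]
      intro hc
      have := Subgroup.Normal.conj_mem inferInstance _ hc g⁻¹
      rw [show g⁻¹ * (g * x * g⁻¹) * g⁻¹⁻¹ = x by group] at this
      exact hx this
  have hη : IsIrrCharacter U (tens p DU lU (φ : U → ℂ)) :=
    isIrr_tens hDUp hcoreU (CharCore.isCharacter_comp (CharCore.irr_isCharacter lam) jU)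
      (fun d => habs _) (fun g x => by
        rw [hextU, hextU]; exact hconj g g.2 x) h1
  have hϑ : IsIrrCharacter H (tens p (D.subgroupOf H) lH (θ : H → ℂ)) :=
    isIrr_tens hDHp hθ (CharCore.isCharacter_comp (CharCore.irr_isCharacter lam) jH)
      (fun d => habs _) (fun g x => by
        rw [hextH, hextH]; exact hconj g (hHU g.2) x) h1
  set ϑ := tens p (D.subgroupOf H) lH (θ : H → ℂ) with hϑdef
  -- `U` is the inertia group of the twist
  have hpp : ∀ h : H, extendByZero (D.subgroupOf H) lH (pp p h) =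
      extendByZero D (lam : D → ℂ) (pp p (h : T)) := fun h => by
    rw [hextH, pp_coe_subgroup]
  have hT : ∀ g : T, g ∈ U ↔ ∀ n : H,
      ϑ ⟨g * n * g⁻¹, Subgroup.Normal.conj_mem inferInstance (n : T) n.2 g⟩ = ϑ n := by
    intro g
    constructor
    · intro hg n
      simp only [hϑdef, tens, hpp, hfix]
      rw [pp_conj, hconj g hg]
    · intro hg
      rw [hU]
      intro d
      have hval : ∀ e : D, ϑ ⟨(e : T), hDH e.2⟩ = (lam : D → ℂ) e * (θ : H → ℂ) 1 := fun e => by
        have hpe : pp p ((⟨(e : T), hDH e.2⟩ : H) : T) = (e : T) :=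
          pp_eq ⟨1, mul_one _, Commute.one_right _, orderOf_pow_of_mem hP e.2, by
            rw [orderOf_one]; exact (Fact.out : p.Prime).not_dvd_one⟩
        simp only [hϑdef, tens, hpp, hpe, CharInd.extendByZero_coe, hθk ⟨(e : T), hDH e.2⟩ e.2]
      have h2 := hg ⟨(d : T), hDH d.2⟩
      rw [hval d] at h2
      have h3 := hval ⟨g * d * g⁻¹, Subgroup.Normal.conj_mem inferInstance _ d.2 g⟩
      exact mul_right_cancel₀ (irr_one_ne_zero θ) (h3.symm.trans h2)
  let η : IrrCharacter U := ⟨_, hη⟩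
  have hηres : (fun n : H => (η : U → ℂ) ⟨(n : T), hHU n.2⟩) = (f : ℂ) • ϑ := by
    funext n
    show tens p DU lU (φ : U → ℂ) ⟨(n : T), hHU n.2⟩ = (f : ℂ) * ϑ n
    simp only [hϑdef, tens, hpp, hextU, hfun]
    rw [← pp_coe_subgroup U]
    ring
  have hηin : classInner (fun n : H => (η : U → ℂ) ⟨(n : T), hHU n.2⟩) ϑ = (f : ℂ) := by
    rw [hηres, CharCore.classInner_smul_left, (CharCore.isIrrCharacter_iff.mp hϑ).2, mul_one]
  have h2 : classInner (fun n : H => (η : U → ℂ) ⟨(n : T), hHU n.2⟩) ϑ ≠ 0 := by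
    rw [hηin]; exact_mod_cast hf0
  let χ : IrrCharacter T := ⟨_, BC87.isIrrCharacter_indFun_inertia hϑ hT hHU η h2⟩
  -- `χ` lies over the twist
  obtain ⟨m, hm⟩ := CharCore.IsCharacter.exists_sum
    (CharCore.isCharacter_restrict (CharCore.irr_isCharacter χ) U)
  have hmη : m η ≠ 0 := by
    intro h
    have h3 : classInner (indFun U (η : U → ℂ)) (χ : T → ℂ) = 1 :=
      (CharCore.isIrrCharacter_iff.mp χ.2).2
    rw [CharInd.classInner_indFun_left U (η : U → ℂ) (CharCore.irr_isClassFunction χ),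
      ← CharInd.classInner_swap, hm, CharCore.classInner_sum_all (fun φ => (m φ : ℂ)) η, h,
      Nat.cast_zero, map_zero] at h3
    exact zero_ne_one h3
  have hnat : ∀ ψ : IrrCharacter U, ∃ k : ℕ,
      classInner (fun n : H => (ψ : U → ℂ) ⟨(n : T), hHU n.2⟩) ϑ = k := fun ψ =>
    CharCore.IsCharacter.exists_classInner_irr_eq_natCast (G := H)
      (CharCore.isCharacter_comp (CharCore.irr_isCharacter ψ) (Subgroup.inclusion hHU))
      ⟨ϑ, hϑ⟩
  choose a ha using hnat
  have hsum : classInner (fun n : H => (χ : T → ℂ) n) ϑ = ((∑ ψ, m ψ * a ψ : ℕ) : ℂ) := by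
    have e : (fun n : H => (χ : T → ℂ) n) =
        ∑ ψ : IrrCharacter U, (m ψ : ℂ) • fun n : H => (ψ : U → ℂ) ⟨(n : T), hHU n.2⟩ := by
      funext n
      have := congrFun hm ⟨(n : T), hHU n.2⟩
      simpa [Finset.sum_apply] using this
    rw [e, CharCore.classInner_sum_left, Nat.cast_sum]
    exact Finset.sum_congr rfl fun ψ _ => by
      rw [CharCore.classInner_smul_left, ha, Nat.cast_mul]
  have hover : classInner (fun n : H => (χ : T → ℂ) n) ϑ ≠ 0 := by
    rw [hsum, Nat.cast_ne_zero]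
    intro h0
    refine mul_ne_zero hmη ?_ (Finset.sum_eq_zero_iff.mp h0 η (Finset.mem_univ _))
    intro h
    exact h2 (by rw [ha, h, Nat.cast_zero])
  have hψ := hall χ hover
  have hη1 : (η : U → ℂ) 1 = (φ : U → ℂ) 1 := by
    show tens p DU lU (φ : U → ℂ) 1 = _
    rw [tens, pp_regular (by rw [orderOf_one]; exact (Fact.out : p.Prime).not_dvd_one),
      CharInd.extendByZero_mem _ DU.one_mem]
    show (lam : D → ℂ) 1 * _ = _
    rw [h1, one_mul]
  rw [← hψ]
  refine (BC87.charDegree_eq ?_).symm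
  show indFun U (η : U → ℂ) 1 = _
  rw [CharInd.indFun_apply_one, hη1, irr_one_eq φ]
  push_cast
  ring

end Cfsg.Agent.EqDeg71
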