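import Cfsg.Agent.EqDeg71.Small
import Cfsg.Agent.EqDeg71.Reduce
import Cfsg.Agent.EqDeg71.Commutant
import Cfsg.Agent.EqDeg71.Twist
import Cfsg.Agent.EqDeg71.DualRep

/-!
# Uniform degrees over the twists of the canonical character force a trivial inertial quotient
-/

set_option linter.unusedSectionVars false

namespace Cfsg.Agent.EqDeg71

open BlocksCore BlocksDefect
open scoped Matrix

universe u

variable {T : Type u} [Group T] [Fintype T] {p : ℕ} [Fact p.Prime] {M : Ideal AlgInt}

theorem eq_top_of_uniform (hM : IsPModular p M) (D H : Subgroup T) [D.Normal] [H.Normal]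
    [Fintype H] (hP : IsPGroup p D) (hH : H = D ⊔ Subgroup.centralizer (D : Set T))
    (hidx : ¬ p ∣ H.index) (θ : IrrCharacter H)
    (hθk : ∀ h : H, (h : T) ∈ D → (θ : H → ℂ) h = (θ : H → ℂ) 1)
    (hθdeg : (charDegree (θ : H → ℂ)).factorization p = (D.subgroupOf H).index.factorization p)
    (hθ : IsPCore p (D.subgroupOf H) θ)
    (hfix : ∀ (g : T) (h : H),
      (θ : H → ℂ) ⟨g * h * g⁻¹, Subgroup.Normal.conj_mem inferInstance _ h.2 g⟩ = (θ : H → ℂ) h)
    (m₀ : ℕ)
    (hall : ∀ lam : IrrCharacter D, (lam : D → ℂ) 1 = 1 →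
      ∀ ψ : IrrCharacter T, classInner (fun h : H => (ψ : T → ℂ) h)
        (tens p (D.subgroupOf H) (fun d => (lam : D → ℂ) ⟨((d : H) : T), d.2⟩) (θ : H → ℂ)) ≠ 0 →
      charDegree (ψ : T → ℂ) = m₀) :
    H = ⊤ := by
  classical
  have hDH : D ≤ H := hH ▸ le_sup_left
  have hPH : IsPGroup p (D.subgroupOf H) := hP.of_equiv (Subgroup.subgroupOfEquivOfLe hDH).symm
  obtain ⟨n, r, hker, hdual⟩ := exists_dual_rep D H hP hH hidx
  obtain ⟨ψ, hψ⟩ := BlocksDefect.exists_over (G := T) θ
  have hψ' : classInner (fun h : H => (ψ : T → ℂ) h) (θ : H → ℂ) ≠ 0 := hψ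
  obtain ⟨m, hm0, hres⟩ := exists_restrict_eq_mul H θ hfix ψ hψ'
  -- the trivial twist
  have hψdeg : charDegree (ψ : T → ℂ) = m₀ := by
    let one : IrrCharacter D := ⟨_, CharCore.isIrrCharacter_one⟩
    refine hall one rfl ψ ?_
    rw [show (fun d : D.subgroupOf H => (one : D → ℂ) ⟨((d : H) : T), d.2⟩) = fun _ => (1 : ℂ)
      from rfl, tens_one hPH hθ]
    exact hψ'
  have hθU : ∀ (U : Subgroup T) [Fintype U] (hHU : H ≤ U) (φ : IrrCharacter U),
      classInner (fun u : U => (ψ : T → ℂ) u) (φ : U → ℂ) ≠ 0 →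
      classInner (fun h : H => (φ : U → ℂ) ⟨(h : T), hHU h.2⟩) (θ : H → ℂ) ≠ 0 := by
    intro U _ hHU φ hφ h0
    -- every constituent of the restriction of `φ` is one of `θ`
    have hchar := CharCore.isCharacter_comp (CharCore.irr_isCharacter φ) (Subgroup.inclusion hHU)
    have hψU := CharCore.isCharacter_restrict (CharCore.irr_isCharacter ψ) U
    choose a ha using fun η : IrrCharacter U =>
      CharCore.IsCharacter.exists_classInner_irr_eq_natCast hψU η
    choose b hb using fun η : IrrCharacter U => fun ζ : IrrCharacter H =>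
      CharCore.IsCharacter.exists_classInner_irr_eq_natCast
        (CharCore.isCharacter_comp (CharCore.irr_isCharacter η) (Subgroup.inclusion hHU)) ζ
    have hzero : ∀ ζ : IrrCharacter H, ζ ≠ θ → b φ ζ = 0 := by
      intro ζ hζ
      have h1 : classInner (fun h : H => (ψ : T → ℂ) h) (ζ : H → ℂ) = 0 := by
        rw [show (fun h : H => (ψ : T → ℂ) h) = (m : ℂ) • (θ : H → ℂ) from funext hres,
          CharCore.classInner_smul_left, CharCore.classInner_irr_of_ne hζ.symm, mul_zero]
      have h2 : classInner (fun h : H => (ψ : T → ℂ) h) (ζ : H → ℂ) =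
          ((∑ η : IrrCharacter U, a η * b η ζ : ℕ) : ℂ) := by
        have e : (fun h : H => (ψ : T → ℂ) h) = ∑ η : IrrCharacter U,
            (a η : ℂ) • ((η : U → ℂ) ∘ Subgroup.inclusion hHU) := by
          funext h
          have h3 := congrFun (CharCore.IsCharacter.eq_sum_classInner hψU) (Subgroup.inclusion hHU h)
          simpa [Finset.sum_apply, ha] using h3
        rw [e, CharCore.classInner_sum_left, Nat.cast_sum]
        refine Finset.sum_congr rfl fun η _ => ?_
        rw [CharCore.classInner_smul_left, Nat.cast_mul, ← hb η ζ]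
        rfl
      rw [h1, eq_comm, Nat.cast_eq_zero] at h2
      have h3 := Finset.sum_eq_zero_iff.mp h2 φ (Finset.mem_univ _)
      rcases mul_eq_zero.mp h3 with h4 | h4
      · exact absurd (by rw [ha φ, h4, Nat.cast_zero]) hφ
      · exact h4
    refine irr_one_ne_zero φ ?_
    have h5 := congrFun (CharCore.IsCharacter.eq_sum_classInner hchar) 1
    rw [Finset.sum_apply] at h5
    simp only [Function.comp_apply, map_one] at h5
    rw [h5]
    refine Finset.sum_eq_zero fun ζ _ => ?_
    rcases eq_or_ne ζ θ with rfl | hζ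
    · simp only [Pi.smul_apply, smul_eq_mul]
      rw [show classInner (fun h => (φ : U → ℂ) (Subgroup.inclusion hHU h)) (ζ : H → ℂ) = 0 from h0, zero_mul]
    · simp only [Pi.smul_apply, smul_eq_mul]
      rw [show classInner (fun h => (φ : U → ℂ) (Subgroup.inclusion hHU h)) (ζ : H → ℂ) = (b φ ζ : ℂ) from
        hb φ ζ, hzero ζ hζ, Nat.cast_zero, zero_mul]
  have hstab : ∀ (v : Fin n → ZMod p) (U : Subgroup T) [Fintype U],
      (∀ g, g ∈ U ↔ (r g : Matrix (Fin n) (Fin n) (ZMod p)) *ᵥ v = v) →
      (∀ φ : IrrCharacter U, classInner (fun u : U => (ψ : T → ℂ) u) (φ : U → ℂ) = 0 ∨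
        classInner (fun u : U => (ψ : T → ℂ) u) (φ : U → ℂ) = 1) ∧
      ∀ g, g ∉ U → (ψ : T → ℂ) g = 0 := by
    intro v U _ hU
    obtain ⟨lam, h1, hlam⟩ := hdual v
    have hHU : H ≤ U := fun g hg => (hU g).mpr (by
      rw [show r g = 1 from MonoidHom.mem_ker.mp (hker ▸ hg), Units.val_one, Matrix.one_mulVec])
    refine multFree_of_degree U ψ fun φ hφ => ?_
    rw [hψdeg]
    exact index_mul_degree hM D H U hP hDH hidx θ hθk hθdeg hθ hfix lam h1 hHU
      (fun g => (hU g).trans (hlam g)) m₀ (hall lam h1) φ (hθU U hHU φ hφ)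
  have hoff : ∀ g, g ∉ H → (ψ : T → ℂ) g = 0 := by
    intro g hg
    by_contra hne
    refine hg (hker ▸ MonoidHom.mem_ker.mpr (Units.ext (Matrix.ext_of_mulVec_single fun i => ?_)))
    rw [Units.val_one, Matrix.one_mulVec]
    let U : Subgroup T :=
      { carrier := {x | (r x : Matrix (Fin n) (Fin n) (ZMod p)) *ᵥ Pi.single i 1 = Pi.single i 1}
        one_mem' := by simp only [Set.mem_setOf_eq, map_one, Units.val_one, Matrix.one_mulVec]
        mul_mem' := fun {x y} hx hy => by
          simp only [Set.mem_setOf_eq, map_mul, Units.val_mul, ← Matrix.mulVec_mulVec] at *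
          rw [hy, hx]
        inv_mem' := fun {x} hx => by
          simp only [Set.mem_setOf_eq] at *
          conv_lhs => rw [← hx]
          rw [Matrix.mulVec_mulVec, ← Units.val_mul, ← map_mul, inv_mul_cancel, map_one,
            Units.val_one, Matrix.one_mulVec] }
    by_contra hgU
    exact hne ((hstab (Pi.single i 1) U fun x => Iff.rfl).2 g hgU)
  have hψD : ∀ d ∈ D, (ψ : T → ℂ) d = (ψ : T → ℂ) 1 := fun d hd => by
    have h1 := hres ⟨d, hDH hd⟩
    have h2 := hres 1
    rw [OneMemClass.coe_one] at h2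
    rw [h1, h2, hθk _ hd]
  have hdef : (charDegree (ψ : T → ℂ)).factorization p = D.index.factorization p := by
    obtain ⟨φ, hφ⟩ := exists_inflate_eq D ψ hψD
    have hle : (charDegree (ψ : T → ℂ)).factorization p ≤ D.index.factorization p := by
      have hdeg : charDegree (ψ : T → ℂ) = charDegree (φ : T ⧸ D → ℂ) := by
        rw [← hφ]
        rfl
      rw [hdeg]
      exact (Nat.factorization_le_iff_dvd (charDegree_pos φ).ne'
        Subgroup.FiniteIndex.index_ne_zero).mpr (charDegree_dvd_card φ) p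
    have hrel : D.index.factorization p = (D.subgroupOf H).index.factorization p := by
      rw [← Subgroup.relIndex_mul_index hDH, Nat.factorization_mul (show D.relIndex H ≠ 0 from Subgroup.FiniteIndex.index_ne_zero)
        Subgroup.FiniteIndex.index_ne_zero, Finsupp.add_apply,
        Nat.factorization_eq_zero_of_not_dvd hidx, add_zero]
      rfl
    have hmul : charDegree (ψ : T → ℂ) = m * charDegree (θ : H → ℂ) := by
      have h2 := hres 1
      rw [OneMemClass.coe_one, irr_one_eq, irr_one_eq] at h2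
      exact_mod_cast h2
    have hge : (charDegree (θ : H → ℂ)).factorization p ≤
        (charDegree (ψ : T → ℂ)).factorization p := by
      rw [hmul, Nat.factorization_mul hm0.ne' (charDegree_pos θ).ne', Finsupp.add_apply]
      exact Nat.le_add_left _ _
    omega
  exact eq_top_of_char hM D H hDH ψ hψD hdef hidx hoff θ m hres r hker
    fun v U _ hU a b x => commute_of_multFree U ψ (hstab v U hU).1 a b x

end Cfsg.Agent.EqDeg71
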